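import Mathlib
import Cfsg.Agent.OddHalf.D4.KP
import Cfsg.Agent.S0215
import Cfsg.Agent.Lib.Cores
import Cfsg.Agent.ClassicalGeometry.OrthAutSylow
import Cfsg.Agent.AutOrth.Main
import Cfsg.Agent.OddHalf.D4.Facts
import Cfsg.Agent.TwoFusion.StronglyEmbeddedBasic
import Cfsg.Agent.OddHalf.D4.Start

-- merged: Cfsg.Agent.OddHalf.D4.SigmaEnd
section

/-!
# ODD, D4: the `Z*` step for a full pair

`D = K ∩ N(L)`, `N = K ∩ C(L)` (a configuration `Conf α β D N`), `O(N) = 1` (`NoOdd N`).

* `central_of_iso` : `e` an involution normalising `N` such that `e * e ^ n` of 2-power order only if `e ^ n = e`: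
  then `e` centralises `N`;
* `eq_pair_of_self` : `w ∈ N` an involution with `C_N(w) = {1, w}`: then `N = {1, w}`;
* `fix_of_odd` : `e ∈ D` an involution such that `e * f` has odd order for the conjugates `f` of `e` under `N` and for
  `f = γ e`, if `e * f ∈ N`: then `γ e = e`;
* `fix_of_conf` : so the involutions of a class `Sig` which are centralised by one of `α`, `β`, `α β` are centralised by all
  of them;
-/

set_option autoImplicit false

namespace Cfsg.Agent.OddHalf.D4.SigmaEnd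

open Subgroup

variable {G : Type*} [Group G]

/-- `O(N) = 1`. -/
def NoOdd (N : Subgroup G) : Prop :=
  ∀ X : Subgroup G, X ≤ N → (∀ n ∈ N, ∀ x ∈ X, n * x * n⁻¹ ∈ X) → Odd (Nat.card ↥X) → X = ⊥

/-- `N ⟨e⟩`. -/
def adj (N : Subgroup G) (e : G) (he : e * e = 1) (hn : ∀ n ∈ N, e * n * e⁻¹ ∈ N) : Subgroup G where
  carrier := {h | h ∈ N ∨ h * e ∈ N}
  one_mem' := Or.inl N.one_mem
  mul_mem' := by
    have hei : e⁻¹ = e := inv_eq_of_mul_eq_one_left he
    rintro a b (ha | ha) (hb | hb)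
    · exact Or.inl (N.mul_mem ha hb)
    · right
      show a * b * e ∈ N
      rw [mul_assoc]
      exact N.mul_mem ha hb
    · right
      show a * b * e ∈ N
      have h1 : a * b * e = (a * e) * (e * b * e⁻¹) := by
        calc a * b * e = a * (e * e) * b * e := by rw [he, mul_one]
          _ = (a * e) * (e * b * e) := by group
          _ = _ := by rw [hei]
      rw [h1]
      exact N.mul_mem ha (hn b hb)
    · left
      show a * b ∈ N
      have h1 : a * b = (a * e) * (e * (b * e) * e⁻¹) := by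
        calc a * b = a * (e * e) * b * (e * e⁻¹) := by rw [he]; group
          _ = _ := by group
      rw [h1]
      exact N.mul_mem ha (hn _ hb)
  inv_mem' := by
    have hei : e⁻¹ = e := inv_eq_of_mul_eq_one_left he
    rintro a (ha | ha)
    · exact Or.inl (N.inv_mem ha)
    · right
      show a⁻¹ * e ∈ N
      have h1 : a⁻¹ * e = e * (a * e)⁻¹ * e⁻¹ := by
        calc a⁻¹ * e = (e * e⁻¹) * a⁻¹ * e := by group
          _ = (e * e⁻¹) * a⁻¹ * e⁻¹ := by rw [hei]
          _ = _ := by group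
      rw [h1]
      exact hn _ (N.inv_mem ha)

theorem mem_adj {N : Subgroup G} {e : G} {he : e * e = 1} {hn : ∀ n ∈ N, e * n * e⁻¹ ∈ N} {h : G} :
    h ∈ adj N e he hn ↔ h ∈ N ∨ h * e ∈ N := Iff.rfl

theorem mem_of_sq [Finite G] {N : Subgroup G} {x : G} (hx : Odd (orderOf x)) (h : x * x ∈ N) : x ∈ N := by
  obtain ⟨k, hk⟩ := hx
  have h1 : x = (x * x) ^ (k + 1) := by
    rw [← pow_two, ← pow_mul]
    have h2 : 2 * (k + 1) = orderOf x + 1 := by omega
    rw [h2, pow_succ, pow_orderOf_eq_one, one_mul]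
  rw [h1]
  exact N.pow_mem h _

/-- **The `Z*` step.** -/
theorem central_of_iso [Finite G] {N : Subgroup G} {e : G} (he : e * e = 1) (he1 : e ≠ 1)
    (hn : ∀ n ∈ N, e * n * e⁻¹ ∈ N) (hO : NoOdd N)
    (hiso : ∀ n ∈ N, (∃ k : ℕ, (e * (n * e * n⁻¹)) ^ 2 ^ k = 1) → n * e * n⁻¹ = e) :
    ∀ n ∈ N, n * e = e * n := by
  have hei : e⁻¹ = e := inv_eq_of_mul_eq_one_left he
  set H := adj N e he hn with hH
  have heH : e ∈ H := Or.inr (by rw [he]; exact N.one_mem)
  have hNH : N ≤ H := fun n hn => Or.inl hn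
  set u : ↥H := ⟨e, heH⟩ with hu
  have hu2 : orderOf u = 2 := by
    apply orderOf_eq_prime
    · rw [pow_two]; exact Subtype.ext he
    · intro h; exact he1 (congrArg Subtype.val h)
  have hp : IsPGroup 2 ↥(zpowers u) := by
    rw [IsPGroup.iff_card]
    exact ⟨1, by rw [Nat.card_zpowers, hu2]; norm_num⟩
  obtain ⟨P, hP⟩ := hp.exists_le_sylow
  have huP : u ∈ P := hP (mem_zpowers u)
  have key : ∀ g : ↥H, ∃ n ∈ N, ((g * u * g⁻¹ : ↥H) : G) = n * e * n⁻¹ := by
    rintro ⟨g, hg | hg⟩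
    · exact ⟨g, hg, rfl⟩
    · refine ⟨g * e, hg, ?_⟩
      show g * e * g⁻¹ = g * e * e * (g * e)⁻¹
      group
  obtain ⟨Nn, hNn, hodd, hcomm⟩ := Cfsg.Agent.S0215.result P u hu2 huP (by
    intro g hg
    obtain ⟨n, hnN, h1⟩ := key g
    have h2 : u * (g * u * g⁻¹) ∈ P := P.mul_mem huP hg
    obtain ⟨k, hk⟩ := P.2 ⟨_, h2⟩
    have h3 : (u * (g * u * g⁻¹)) ^ 2 ^ k = 1 := congrArg Subtype.val hk
    have h4 : (e * (n * e * n⁻¹)) ^ 2 ^ k = 1 := by
      rw [← h1]
      exact congrArg Subtype.val h3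
    apply Subtype.ext
    rw [h1]
    exact hiso n hnN ⟨k, h4⟩)
  have hXN : Nn.map H.subtype ≤ N := by
    rintro _ ⟨x, hx, rfl⟩
    have hxo : Odd (orderOf (x : G)) := by
      rw [Subgroup.orderOf_coe]
      have h1 : orderOf (⟨x, hx⟩ : ↥Nn) ∣ Nat.card ↥Nn := orderOf_dvd_natCard _
      rw [Subgroup.orderOf_mk] at h1
      exact Odd.of_dvd_nat hodd h1
    rcases x.2 with h1 | h1
    · exact h1
    · apply mem_of_sq hxo
      have h2 : (x : G) * x = ((x : G) * e) * (e * ((x : G) * e) * e⁻¹) := by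
        calc (x : G) * x = x * (e * e) * x * (e * e⁻¹) := by rw [he]; group
          _ = _ := by group
      show (x : G) * x ∈ N
      rw [h2]
      exact N.mul_mem h1 (hn _ h1)
  have hX := hO (Nn.map H.subtype) hXN (by
    rintro n hnN _ ⟨x, hx, rfl⟩
    exact ⟨(⟨n, hNH hnN⟩ : ↥H) * x * (⟨n, hNH hnN⟩ : ↥H)⁻¹, hNn.conj_mem x hx _, rfl⟩) (by
    rw [Nat.card_congr (Nn.equivMapOfInjective _ H.subtype_injective).toEquiv.symm]
    exact hodd)
  intro n hnN
  have h1 := hcomm ⟨n, hNH hnN⟩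
  have h2 : e * n * e⁻¹ * n⁻¹ ∈ Nn.map H.subtype := ⟨_, h1, rfl⟩
  rw [hX, mem_bot] at h2
  calc n * e = (e * n * e⁻¹ * n⁻¹) * n * e := by rw [h2, one_mul]
    _ = e * n := by group

/-- The involutions in a 2-power chain. -/
theorem exists_pow_two {x : G} (hx : x ≠ 1) {k : ℕ} (hk : x ^ 2 ^ k = 1) :
    ∃ j : ℕ, x ^ j ≠ 1 ∧ x ^ j * x ^ j = 1 := by
  induction k with
  | zero => exact absurd (by simpa using hk) hx
  | succ k ih =>
    by_cases h : x ^ 2 ^ k = 1
    · exact ih h
    · exact ⟨2 ^ k, h, by rw [← pow_add, ← two_mul, ← pow_succ']; exact hk⟩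

/-- An involution `w` of `N` with `C_N(w) = {1, w}`. -/
theorem eq_pair_of_self [Finite G] {N : Subgroup G} {w : G} (hw : w ∈ N) (hw2 : w * w = 1) (hw1 : w ≠ 1)
    (hC : ∀ n ∈ N, n * w = w * n → n = 1 ∨ n = w) (hO : NoOdd N) : ∀ n ∈ N, n = 1 ∨ n = w := by
  have hwi : w⁻¹ = w := inv_eq_of_mul_eq_one_left hw2
  have h := central_of_iso hw2 hw1 (fun n hn => N.mul_mem (N.mul_mem hw hn) (N.inv_mem hw)) hO (by
    rintro n hn ⟨k, hk⟩
    set w' := n * w * n⁻¹ with hw'
    have hw'N : w' ∈ N := N.mul_mem (N.mul_mem hn hw) (N.inv_mem hn)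
    have hw'2 : w' * w' = 1 := by
      calc w' * w' = n * (w * w) * n⁻¹ := by rw [hw']; group
        _ = 1 := by rw [hw2]; group
    have hw'i : w'⁻¹ = w' := inv_eq_of_mul_eq_one_left hw'2
    set x := w * w' with hx
    by_cases hx1 : x = 1
    · have : w' = w⁻¹ := eq_inv_of_mul_eq_one_right hx1
      rw [this, hwi]
    obtain ⟨j, hj1, hj2⟩ := exists_pow_two hx1 hk
    have hxN : x ∈ N := N.mul_mem hw hw'N
    have hinv : w * x * w⁻¹ = x⁻¹ := by
      calc w * x * w⁻¹ = (w * w) * w' * w⁻¹ := by rw [hx]; group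
        _ = w'⁻¹ * w⁻¹ := by rw [hw2, one_mul, hw'i]
        _ = x⁻¹ := by rw [hx]; group
    have hz : x ^ j * w = w * x ^ j := by
      have h1 : w * x ^ j * w⁻¹ = (x ^ j)⁻¹ := by
        rw [← conj_pow, hinv, inv_pow]
      have h2 : (x ^ j)⁻¹ = x ^ j := inv_eq_of_mul_eq_one_left hj2
      rw [h2] at h1
      calc x ^ j * w = (w * x ^ j * w⁻¹) * w := by rw [h1]
        _ = w * x ^ j := by group
    have hzw : x ^ j = w := (hC _ (N.pow_mem hxN j) hz).resolve_left hj1
    have hxw : x * w = w * x := by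
      rw [← hzw]
      exact (pow_succ' x j).symm.trans (pow_succ x j)
    have hw'w : w' * w = w * w' := by
      have h1 : w' = w * x := by rw [hx, ← mul_assoc, hw2, one_mul]
      rw [h1, mul_assoc, hxw]
    rcases hC w' hw'N hw'w with h3 | h3
    · exfalso
      apply hw1
      have h4 : w = n⁻¹ * w' * n := by rw [hw']; group
      rw [h4, h3]; group
    · exact h3)
  intro n hn
  exact hC n hn (h n hn)

/-- An involution `e` centralised "up to odd order". -/
theorem fix_of_odd [Finite G] {N : Subgroup G} {e e' : G} (he : e * e = 1) (he1 : e ≠ 1)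
    (hn : ∀ n ∈ N, e * n * e⁻¹ ∈ N) (hO : NoOdd N)
    (hodd : ∀ n ∈ N, e * (n * e * n⁻¹) ∈ N → Odd (orderOf (e * (n * e * n⁻¹))))
    (he' : e' * e' = 1) (hN : e * e' ∈ N) (ho : Odd (orderOf (e * e'))) : e' = e := by
  have hei : e⁻¹ = e := inv_eq_of_mul_eq_one_left he
  have hei' : e'⁻¹ = e' := inv_eq_of_mul_eq_one_left he'
  have h1 := central_of_iso he he1 hn hO (by
    rintro n hnN ⟨k, hk⟩
    have h2 : e * (n * e * n⁻¹) ∈ N := by
      have h3 : e * (n * e * n⁻¹) = (e * n * e⁻¹) * n⁻¹ := by rw [hei]; group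
      rw [h3]
      exact N.mul_mem (hn n hnN) (N.inv_mem hnN)
    have h4 := hodd n hnN h2
    have h5 : e * (n * e * n⁻¹) = 1 := by
      rw [← orderOf_eq_one_iff]
      have h6 : orderOf (e * (n * e * n⁻¹)) ∣ 2 ^ k := orderOf_dvd_of_pow_eq_one hk
      rcases (Nat.dvd_prime_pow Nat.prime_two).1 h6 with ⟨m, _, hm⟩
      rw [hm] at h4 ⊢
      rcases Nat.eq_zero_or_pos m with h7 | h7
      · rw [h7, pow_zero]
      · exfalso
        exact (Nat.not_odd_iff_even.2 ((even_two).pow_of_ne_zero (by omega))) h4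
    have h6 := eq_inv_of_mul_eq_one_right h5
    rw [h6, hei])
  have h2 := h1 _ hN
  have h3 : (e * e') * (e * e') = 1 := by
    have h4 : e' * e = e * e' := by
      calc e' * e = (e⁻¹ * e) * e' * e := by group
        _ = e⁻¹ * ((e * e') * e) := by group
        _ = e⁻¹ * (e * (e * e')) := by rw [h2]
        _ = e * e' := by group
    calc (e * e') * (e * e') = e * (e' * e) * e' := by group
      _ = e * (e * e') * e' := by rw [h4]
      _ = (e * e) * (e' * e') := by group
      _ = 1 := by rw [he, he', one_mul]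
  have h4 : e * e' = 1 := by
    obtain ⟨k, hk⟩ := ho
    have h5 : (e * e') ^ orderOf (e * e') = 1 := pow_orderOf_eq_one _
    rw [hk, pow_succ, pow_mul, pow_two, h3, one_pow, one_mul] at h5
    exact h5
  have := eq_inv_of_mul_eq_one_right h4
  rw [this, hei]

/-- **The class `Sig`**: all elements of `Sig` centralised by one of `α`, `β`, `α β` are centralised by the others. -/
theorem fix_of_conf {M : Type*} [Group M] [Finite M] {α β : MulAut M} {D N : Subgroup M} (h : Conf α β D N)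
    (hO : NoOdd N) (Sig : Set M) (hinv : ∀ e ∈ Sig, e * e = 1 ∧ e ≠ 1)
    (haut : ∀ γ : MulAut M, (γ = α ∨ γ = β ∨ γ = α * β) → ∀ e ∈ Sig, γ e ∈ Sig)
    (hconj : ∀ n ∈ N, ∀ e ∈ Sig, n * e * n⁻¹ ∈ Sig)
    (hprod : ∀ e ∈ Sig, ∀ f ∈ Sig, e * f ∈ N → Odd (orderOf (e * f)))
    {γ γ' : MulAut M} (hγ : γ = α ∨ γ = β ∨ γ = α * β) (hγ' : γ' = α ∨ γ' = β ∨ γ' = α * β) {e : M} (he : e ∈ Sig)
    (hfix : γ e = e) : γ' e = e := by
  have heD : e ∈ D := h.cen γ hγ e hfix
  obtain ⟨he2, he1⟩ := hinv e he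
  have hei : e⁻¹ = e := inv_eq_of_mul_eq_one_left he2
  have hN : e * γ' e ∈ N := by
    have h1 := N.inv_mem (h.comm γ' hγ' e heD)
    have h2 : (γ' e * e⁻¹)⁻¹ = e * (γ' e)⁻¹ := by group
    rw [h2, ← map_inv, hei] at h1
    exact h1
  refine fix_of_odd he2 he1 (h.norm e heD) hO (fun n hn hm => hprod e he _ (hconj n hn e he) hm) ?_ hN
    (hprod e he _ (haut γ' hγ' e he) hN)
  rw [← map_mul, he2, map_one]

/-- `C_N(γ) = 1` for `γ = α, β, α β` gives `O(N) = 1`. -/
theorem noOdd_of_conf {M : Type*} [Group M] [Finite M] {α β : MulAut M} {D N : Subgroup M} (h : Conf α β D N)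
    (hK : ∀ γ : MulAut M, (γ = α ∨ γ = β ∨ γ = α * β) → ∀ X : Subgroup M, (∀ x ∈ X, γ x = x) →
      (∀ g, γ g = g → ∀ x ∈ X, g * x * g⁻¹ ∈ X) → Odd (Nat.card ↥X) → X = ⊥) : NoOdd N := by
  set O : Subgroup M := (Cfsg.pPrimeCore 2 ↥N).map N.subtype with hOdef
  have hON : O ≤ N := by
    rintro _ ⟨x, _, rfl⟩
    exact x.2
  have hcardO : Odd (Nat.card ↥O) := by
    have h1 : Nat.card ↥O = Nat.card ↥(Cfsg.pPrimeCore 2 ↥N) :=
      Nat.card_congr ((Cfsg.pPrimeCore 2 ↥N).equivMapOfInjective N.subtype N.subtype_injective).toEquiv.symm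
    rw [h1]
    exact Nat.coprime_two_right.1 (Cfsg.Agent.Lib.Cores.pPrimeCore_coprime (G := ↥N) 2)
  -- invariance under automorphisms normalising `N`
  have hinv : ∀ φ : MulAut M, (∀ n ∈ N, φ n ∈ N) → (∀ n ∈ N, φ⁻¹ n ∈ N) → ∀ x ∈ O, φ x ∈ O := by
    intro φ h1 h2
    let e : ↥N ≃* ↥N :=
      { toFun := fun n => ⟨φ n, h1 n n.2⟩
        invFun := fun n => ⟨φ⁻¹ n, h2 n n.2⟩
        left_inv := fun n => Subtype.ext (MulAut.inv_apply_self M φ n)
        right_inv := fun n => Subtype.ext (MulAut.apply_inv_self M φ n)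
        map_mul' := fun a b => Subtype.ext (map_mul φ _ _) }
    rintro _ ⟨x, hx, rfl⟩
    have h3 : e x ∈ Cfsg.pPrimeCore 2 ↥N := by
      rw [← Cfsg.Agent.Lib.Cores.map_equiv_pPrimeCore e 2]
      exact ⟨x, hx, rfl⟩
    exact ⟨e x, h3, rfl⟩
  have hOD : ∀ d ∈ D, ∀ x ∈ O, d * x * d⁻¹ ∈ O := by
    intro d hd x hx
    have h1 : ∀ n ∈ N, d⁻¹ * n * d ∈ N := by
      intro n hn
      have := h.norm d⁻¹ (D.inv_mem hd) n hn
      rwa [inv_inv] at this
    have := hinv (MulAut.conj d) (fun n hn => by rw [MulAut.conj_apply]; exact h.norm d hd n hn)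
      (fun n hn => by rw [MulAut.conj_inv_apply]; exact h1 n hn) x hx
    rwa [MulAut.conj_apply] at this
  have hsq : ∀ γ : MulAut M, (γ = α ∨ γ = β ∨ γ = α * β) → γ * γ = 1 := by
    rintro γ (rfl | rfl | rfl)
    · exact h.aa
    · exact h.bb
    · calc α * β * (α * β) = α * (β * α) * β := by group
        _ = α * (α * β) * β := by rw [h.ab]
        _ = (α * α) * (β * β) := by group
        _ = 1 := by rw [h.aa, h.bb, one_mul]
  have hγN : ∀ γ : MulAut M, (γ = α ∨ γ = β ∨ γ = α * β) → ∀ n ∈ N, γ n ∈ N := by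
    intro γ hγ n hn
    have h1 := N.mul_mem (h.comm γ hγ n (h.le hn)) hn
    rwa [inv_mul_cancel_right] at h1
  have hOγ : ∀ γ : MulAut M, (γ = α ∨ γ = β ∨ γ = α * β) → ∀ x ∈ O, γ x ∈ O := by
    intro γ hγ
    apply hinv γ (hγN γ hγ)
    have h1 : γ⁻¹ = γ := inv_eq_of_mul_eq_one_left (hsq γ hγ)
    rw [h1]
    exact hγN γ hγ
  -- fixed points
  have hfix : ∀ γ : MulAut M, (γ = α ∨ γ = β ∨ γ = α * β) → ∀ x ∈ O, γ x = x → x = 1 := by
    intro γ hγ x hx hfx
    let X : Subgroup M :=
      { carrier := {x | x ∈ O ∧ γ x = x}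
        one_mem' := ⟨O.one_mem, map_one γ⟩
        mul_mem' := fun {a b} ha hb => ⟨O.mul_mem ha.1 hb.1, by rw [map_mul, ha.2, hb.2]⟩
        inv_mem' := fun {a} ha => ⟨O.inv_mem ha.1, by rw [map_inv, ha.2]⟩ }
    have hXO : X ≤ O := fun x hx => hx.1
    have h1 := hK γ hγ X (fun x hx => hx.2) (fun g hg x hx =>
      ⟨hOD g (h.cen γ hγ g hg) x hx.1, by rw [map_mul, map_mul, map_inv, hg, hx.2]⟩)
      (Odd.of_dvd_nat hcardO (card_dvd_of_le hXO))
    have h2 : x ∈ X := ⟨hx, hfx⟩
    rw [h1, mem_bot] at h2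
    exact h2
  have hinvert : ∀ γ : MulAut M, (γ = α ∨ γ = β ∨ γ = α * β) → ∀ x ∈ O, γ x = x⁻¹ := by
    intro γ hγ
    let φ : ↥O →* ↥O :=
      { toFun := fun x => ⟨γ x, hOγ γ hγ x x.2⟩
        map_one' := Subtype.ext (map_one γ)
        map_mul' := fun a b => Subtype.ext (map_mul γ _ _) }
    have h1 : MonoidHom.FixedPointFree φ := by
      intro x hx
      exact Subtype.ext (hfix γ hγ x x.2 (congrArg Subtype.val hx))
    have h2 : Function.Involutive φ := by
      intro x
      apply Subtype.ext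
      show γ (γ x) = x
      exact congrArg (fun f : MulAut M => f x) (hsq γ hγ)
    have h3 := h1.coe_eq_inv_of_involutive h2
    intro x hx
    exact congrArg Subtype.val (congrFun h3 ⟨x, hx⟩)
  have hObot : O = ⊥ := by
    rw [eq_bot_iff]
    intro x hx
    rw [mem_bot]
    apply hfix (α * β) (Or.inr (Or.inr rfl)) x hx
    show α (β x) = x
    rw [hinvert β (Or.inr (Or.inl rfl)) x hx, hinvert α (Or.inl rfl) _ (O.inv_mem hx), inv_inv]
  intro X hXN hXn hXo
  have h1 : (X.subgroupOf N).Normal := by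
    refine ⟨fun n hn g => ?_⟩
    rw [mem_subgroupOf] at hn ⊢
    exact hXn g g.2 n hn
  have h2 : X.subgroupOf N ≤ Cfsg.pPrimeCore 2 ↥N := by
    apply Cfsg.Agent.Lib.Cores.le_pPrimeCore h1
    rw [Nat.coprime_two_right, Nat.card_congr (subgroupOfEquivOfLe hXN).toEquiv]
    exact hXo
  rw [eq_bot_iff]
  intro x hx
  have h3 : x ∈ O := ⟨⟨x, hXN hx⟩, h2 (mem_subgroupOf.2 hx), rfl⟩
  rwa [hObot] at h3

end Cfsg.Agent.OddHalf.D4.SigmaEnd

end

-- merged: Cfsg.Agent.OddHalf.D4.O2.Base
section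

/-!
# ODD, D4, rows `Ω^±_2n(2)`: quadratic forms over the field with two elements
-/

set_option autoImplicit false
set_option linter.unusedSectionVars false

namespace Cfsg.Agent.OddHalf.D4.O2

open QuadraticMap Cfsg.Agent.LieClassical.OrthCore Cfsg.Agent.LieClassical.OrthTrans
  Cfsg.Agent.ClassicalGeometry.OrthAutBasic Cfsg.Agent.ClassicalGeometry.OrthAutRoot
  Cfsg.Agent.ClassicalGeometry.OrthAutSylow

variable {F V : Type*} [Field F] [AddCommGroup V] [Module F V] {Q : QuadraticForm F V}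

/-- The field has two elements. -/
def Two (F : Type*) [Field F] : Prop := ∀ a : F, a = 0 ∨ a = 1

namespace Two

variable (h2 : Two F)

include h2

theorem two : (1 : F) + 1 = 0 := by
  rcases h2 (1 + 1) with h | h
  · exact h
  · exfalso
    exact one_ne_zero (α := F) (by linear_combination h)

theorem two' : (2 : F) = 0 := by
  have := h2.two
  linear_combination this

theorem eq_one {a : F} (h : a ≠ 0) : a = 1 := (h2 a).resolve_left h

theorem eq_zero {a : F} (h : a ≠ 1) : a = 0 := (h2 a).resolve_right h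

theorem add_self (v : V) : v + v = 0 := by
  have : v + v = ((1 : F) + 1) • v := by rw [add_smul, one_smul]
  rw [this, h2.two, zero_smul]

theorem neg_eq (v : V) : -v = v := (eq_neg_of_add_eq_zero_left (h2.add_self v)).symm

theorem sub_eq (v w : V) : v - w = v + w := by rw [sub_eq_add_neg, h2.neg_eq]

theorem addF (a : F) : a + a = 0 := by
  have := h2.two
  linear_combination a * this

theorem negF (a : F) : -a = a := (eq_neg_of_add_eq_zero_left (h2.addF a)).symm

theorem eq_of_add {v w : V} (h : v + w = 0) : v = w := by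
  rw [← h2.neg_eq w]; exact eq_neg_of_add_eq_zero_left h

theorem finite : Finite F := by
  have h : Function.Surjective (fun b : Bool => if b then (1 : F) else 0) := by
    intro a
    rcases h2 a with h | h
    · exact ⟨false, by simp [h]⟩
    · exact ⟨true, by simp [h]⟩
  exact Finite.of_surjective _ h

theorem polar_self (v : V) : polar Q v v = 0 := by
  rw [polar_self', h2.two', zero_mul]

/-- multiples of a vector -/
theorem smul_cases {u v : V} (h : ∃ c : F, v = c • u) : v = 0 ∨ v = u := by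
  obtain ⟨c, rfl⟩ := h
  rcases h2 c with rfl | rfl
  · left; rw [zero_smul]
  · right; rw [one_smul]

theorem mem_span {u v : V} : v ∈ Submodule.span F {u} ↔ v = 0 ∨ v = u := by
  rw [Submodule.mem_span_singleton]
  constructor
  · rintro ⟨c, rfl⟩
    exact h2.smul_cases ⟨c, rfl⟩
  · rintro (rfl | rfl)
    · exact ⟨0, zero_smul _ _⟩
    · exact ⟨1, one_smul _ _⟩

theorem mem_span_pair {u w v : V} : v ∈ Submodule.span F {u, w} ↔ v = 0 ∨ v = u ∨ v = w ∨ v = u + w := by
  rw [Submodule.mem_span_pair]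
  constructor
  · rintro ⟨a, b, rfl⟩
    rcases h2 a with rfl | rfl <;> rcases h2 b with rfl | rfl <;> simp
  · rintro (rfl | rfl | rfl | rfl)
    · exact ⟨0, 0, by simp⟩
    · exact ⟨1, 0, by simp⟩
    · exact ⟨0, 1, by simp⟩
    · exact ⟨1, 1, by simp⟩

/-- `T` over the field with two elements. -/
theorem T_apply {u w : V} (hu : Q u = 0) (hw : polar Q u w = 0) (v : V) :
    T Q u w v = v + polar Q u v • w + polar Q w v • u + (Q w * polar Q u v) • u := by
  rw [Cfsg.Agent.ClassicalGeometry.OrthAutBasic.T_apply hu hw, h2.sub_eq, h2.sub_eq]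

theorem T_perp {u w v : V} (hu : Q u = 0) (hw : polar Q u w = 0) (hv : polar Q u v = 0) :
    T Q u w v = v + polar Q w v • u := by
  rw [Cfsg.Agent.ClassicalGeometry.OrthAutBasic.T_apply_perp hu hw hv, h2.sub_eq]

theorem T_swap {u w : V} (hu : Q u = 0) (hw : Q w = 0) (huw : polar Q u w = 0) :
    T Q u w = T Q w u := by
  rw [Cfsg.Agent.ClassicalGeometry.OrthAutBasic.T_swap hu hw huw, h2.neg_eq]

theorem T_sq {u w : V} : T Q u w * T Q u w = 1 := by
  by_cases h : Q u = 0 ∧ polar Q u w = 0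
  · rw [T_mul h.1 h.2 h.2, h2.add_self, T_zero_right]
  · rw [T_eq_one h, mul_one]

theorem T_inv {u w : V} : (T Q u w)⁻¹ = T Q u w := inv_eq_of_mul_eq_one_left h2.T_sq

theorem T_add_self {u w : V} (hu : Q u = 0) (hw : polar Q u w = 0) : T Q u (w + u) = T Q u w := by
  have := T_add_smul (Q := Q) hu hw (1 : F)
  rwa [one_smul] at this

theorem T_self {u : V} : T Q u u = 1 := by
  by_cases hu : Q u = 0
  · have := h2.T_add_self (Q := Q) hu (polar_zero_right _ u)
    rw [zero_add, T_zero_right] at this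
    exact this
  · exact T_eq_one fun h => hu h.1

/-- lines over the field with two elements -/
theorem ln {u w : V} (hu : Q u = 0) (hw : Q w = 0) (huw : polar Q u w = 0) (hu0 : u ≠ 0) (hw0 : w ≠ 0)
    (hne : w ≠ u) : Ln Q u w :=
  ⟨hu, hw, huw, hu0, fun c hc => by
    rcases h2.smul_cases ⟨c, hc⟩ with h | h
    · exact hw0 h
    · exact hne h⟩

theorem Q_add_eq (x y : V) : Q (x + y) = Q x + Q y + polar Q x y := Q_add x y

end Two

theorem Ln.ne2 {u w : V} (h : Ln Q u w) : w ≠ u := by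
  have := h.ind 1
  rwa [one_smul] at this

/-- The elements of `O Q` commute with `T` as follows. -/
theorem conj_T {g : V ≃ₗ[F] V} (hg : g ∈ O Q) (u w : V) : g * T Q u w * g⁻¹ = T Q (g u) (g w) := T_conj hg u w

/-! ### Existence of vectors -/

/-- A singular vector orthogonal to given vectors and outside a given subspace. -/
theorem exists_sing_avoid [Finite F] {k : ℕ} (u : Fin k → V) (B : Submodule F V)
    (h : k + Module.finrank F B + 3 ≤ Module.finrank F V) :
    ∃ r, Q r = 0 ∧ (∀ i, polar Q (u i) r = 0) ∧ r ∉ B := by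
  have : Module.Finite F V := Module.finite_of_finrank_pos (by omega)
  obtain ⟨C, hC⟩ := B.exists_isCompl
  have hd : Module.finrank F B + Module.finrank F C = Module.finrank F V :=
    Submodule.finrank_add_eq_of_isCompl hC
  let f : C →ₗ[F] (Fin k → F) := (LinearMap.pi fun i => polarBilin Q (u i)).comp C.subtype
  have h1 := LinearMap.finrank_range_add_finrank_ker f
  have h2 : Module.finrank F (LinearMap.range f) ≤ k := by
    have := Submodule.finrank_le (LinearMap.range f)
    rwa [Module.finrank_fin_fun] at this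
  have h3 : Module.finrank F ((LinearMap.ker f).map C.subtype) = Module.finrank F (LinearMap.ker f) :=
    Submodule.finrank_map_subtype_eq _ _
  obtain ⟨r, hr, hr0, hrQ⟩ := exists_sing_of_three_le (Q := Q) ((LinearMap.ker f).map C.subtype) (by omega)
  obtain ⟨c, hc, rfl⟩ := hr
  refine ⟨c, hrQ, fun i => ?_, fun hB => ?_⟩
  · have := congrFun (LinearMap.mem_ker.1 hc) i
    simpa [f] using this
  · apply hr0
    have := hC.disjoint
    rw [Submodule.disjoint_def] at this
    exact this _ hB c.2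

/-- A vector orthogonal to given vectors and outside a given subspace. -/
theorem exists_avoid {k : ℕ} (u : Fin k → V) (B : Submodule F V)
    (h : k + Module.finrank F B < Module.finrank F V) :
    ∃ r, (∀ i, polar Q (u i) r = 0) ∧ r ∉ B := by
  have : Module.Finite F V := Module.finite_of_finrank_pos (by omega)
  let f : V →ₗ[F] (Fin k → F) := LinearMap.pi fun i => polarBilin Q (u i)
  have h1 := LinearMap.finrank_range_add_finrank_ker f
  have h2 : Module.finrank F (LinearMap.range f) ≤ k := by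
    have := Submodule.finrank_le (LinearMap.range f)
    rwa [Module.finrank_fin_fun] at this
  have h3 : ¬ LinearMap.ker f ≤ B := by
    intro hle
    have := Submodule.finrank_mono hle
    omega
  obtain ⟨r, hr, hrB⟩ := SetLike.not_le_iff_exists.1 h3
  refine ⟨r, fun i => ?_, hrB⟩
  have := congrFun (LinearMap.mem_ker.1 hr) i
  simpa [f] using this

theorem finrank_span_le {k : ℕ} (u : Fin k → V) : Module.finrank F (Submodule.span F (Set.range u)) ≤ k := by
  have := finrank_range_le_card (R := F) u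
  rwa [Fintype.card_fin, Set.finrank] at this

theorem finrank_span_singleton_le (u : V) : Module.finrank F (Submodule.span F {u}) ≤ 1 := by
  have := finrank_span_le (F := F) ![u]
  rwa [Matrix.range_cons, Matrix.range_empty, Set.union_empty] at this

theorem finrank_span_pair_le (u v : V) : Module.finrank F (Submodule.span F {u, v}) ≤ 2 := by
  have := finrank_span_le (F := F) ![u, v]
  rwa [Matrix.range_cons, Matrix.range_cons, Matrix.range_empty, Set.union_empty, Set.singleton_union] at this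

/-- Make a vector with `b(e, f) = 1`, `e` singular, singular. -/
theorem Two.sing_of (h2 : Two F) {e x : V} (he : Q e = 0) (hex : polar Q e x = 1) :
    ∃ c : F, Q (x + c • e) = 0 ∧ polar Q e (x + c • e) = 1 := by
  refine ⟨Q x, ?_, ?_⟩
  · rw [Q_add, QuadraticMap.map_smul, he, polar_smul_right, polar_comm Q x e, hex]
    simp only [smul_eq_mul, mul_zero, add_zero, mul_one]
    exact h2.addF _
  · rw [polar_add_right, polar_smul_right, h2.polar_self, hex]
    simp

end Cfsg.Agent.OddHalf.D4.O2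

end

-- merged: Cfsg.Agent.OddHalf.D4.O2.CTwo
section

/-!
# ODD, D4, rows `Ω^±_2n(2)`: involutions of type `c₂` are not in `N`
-/

set_option autoImplicit false
set_option linter.unusedSectionVars false

namespace Cfsg.Agent.OddHalf.D4.O2

open QuadraticMap Cfsg.Agent.LieClassical.OrthCore Cfsg.Agent.LieClassical.OrthTrans
  Cfsg.Agent.ClassicalGeometry.OrthAutBasic Cfsg.Agent.ClassicalGeometry.OrthAutRoot
  Cfsg.Agent.ClassicalGeometry.OrthAutSylow

variable {F V : Type*} [Field F] [AddCommGroup V] [Module F V] {Q : QuadraticForm F V}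

/-- The traces `D = K ∩ N(L)`, `N = K ∩ C(L)` in the group `E Q`. -/
structure OC (Q : QuadraticForm F V) (D N : Subgroup (V ≃ₗ[F] V)) : Prop where
  le : N ≤ D
  DE : D ≤ E Q
  norm : ∀ d ∈ D, ∀ n ∈ N, d * n * d⁻¹ ∈ N
  cenN : ∀ n ∈ N, n ≠ 1 → n * n = 1 → ∀ x ∈ E Q, x * n = n * x → x ∈ D
  sig : ∀ u w, Ln Q u w → T Q u w ∉ N

/-- `g` centralises `w` and `[g, C(w)] ≤ N`. -/
structure Gd (Q : QuadraticForm F V) (N : Subgroup (V ≃ₗ[F] V)) (w g : V ≃ₗ[F] V) : Prop where
  mO : g ∈ O Q
  comm : g * w = w * g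
  mem : ∀ h ∈ E Q, h * w = w * h → g * h * g⁻¹ * h⁻¹ ∈ N

/-- `p` singular, `q` nonsingular, orthogonal. -/
structure PQ (Q : QuadraticForm F V) (p q : V) : Prop where
  qp : Q p = 0
  p0 : p ≠ 0
  pq : polar Q p q = 0
  qq : Q q = 1

theorem comm_of_fix {g : V ≃ₗ[F] V} (hg : g ∈ O Q) {u w : V} (hu : g u = u) (hw : g w = w) :
    g * T Q u w = T Q u w * g := by
  have := T_conj hg u w
  rw [hu, hw, mul_inv_eq_iff_eq_mul] at this
  exact this

theorem T_comm {u w w' : V} (hu : Q u = 0) (hw : polar Q u w = 0) (hw' : polar Q u w' = 0) :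
    T Q u w * T Q u w' = T Q u w' * T Q u w := by
  rw [T_mul hu hw hw', T_mul hu hw' hw, add_comm]

section

variable (h2 : Two F) {D N : Subgroup (V ≃ₗ[F] V)}

include h2

theorem PQ.sw {p q : V} (h : PQ Q p q) : PQ Q p (q + p) where
  qp := h.qp
  p0 := h.p0
  pq := by rw [polar_add_right, h.pq, h2.polar_self, add_zero]
  qq := by rw [Q_add, h.qp, h.qq, polar_comm, h.pq]; simp

theorem PQ.qp' {p q : V} (h : PQ Q p q) : polar Q q p = 0 := by rw [polar_comm, h.pq]

theorem PQ.q0 {p q : V} (h : PQ Q p q) : q ≠ 0 := by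
  rintro rfl
  have := h.qq
  rw [QuadraticMap.map_zero] at this
  exact zero_ne_one this

theorem PQ.ne {p q : V} (h : PQ Q p q) : p ≠ q := by
  rintro rfl
  have := h.qq
  rw [h.qp] at this
  exact zero_ne_one this

theorem PQ.nsm {p q : V} (h : PQ Q p q) : ∀ c : F, q ≠ c • p := by
  intro c hc
  rcases h2.smul_cases ⟨c, hc⟩ with h' | h'
  · exact PQ.q0 h2 h h'
  · exact PQ.ne h2 h h'.symm

theorem PQ.nsm' {p q : V} (h : PQ Q p q) : ∀ c : F, p ≠ c • q := by
  intro c hc
  rcases h2.smul_cases ⟨c, hc⟩ with h' | h'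
  · exact h.p0 h'
  · exact PQ.ne h2 h h'

theorem PQ.T_apply {p q : V} (h : PQ Q p q) (x : V) :
    T Q p q x = x + polar Q p x • q + polar Q q x • p + polar Q p x • p := by
  rw [h2.T_apply h.qp h.pq, h.qq, one_mul]

theorem PQ.T_ne_one (hQ : Nondeg Q) {p q : V} (h : PQ Q p q) : T Q p q ≠ 1 := by
  intro e
  obtain ⟨x, hx1, hx2⟩ := exists_sep hQ (PQ.nsm h2 h)
  have h3 : T Q p q x = x := by rw [e]; rfl
  rw [PQ.T_apply h2 h, hx1, hx2] at h3
  apply h.p0
  simpa using h3

/-- An isometry commuting with `T p q` fixes `p`. -/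
theorem PQ.fix_p (hQ : Nondeg Q) {p q : V} (h : PQ Q p q) {g : V ≃ₗ[F] V} (hg : g ∈ O Q)
    (hc : g * T Q p q = T Q p q * g) : g p = p := by
  obtain ⟨x, hx1, hx2⟩ := exists_sep hQ (PQ.nsm h2 h)
  have h3 : g (T Q p q x) = T Q p q (g x) := congrArg (fun f : V ≃ₗ[F] V => f x) hc
  rw [PQ.T_apply h2 h, PQ.T_apply h2 h, hx1, hx2, zero_smul, zero_smul, add_zero, add_zero, one_smul, map_add,
    add_assoc, add_assoc] at h3
  have h4 := add_left_cancel h3
  rcases h2 (polar Q p (g x)) with h5 | h5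
  · rw [h5, zero_smul, zero_smul, zero_add, add_zero] at h4
    rcases h2 (polar Q q (g x)) with h6 | h6
    · rw [h6, zero_smul] at h4
      exact absurd ((LinearEquiv.map_eq_zero_iff g).1 h4) h.p0
    · rw [h6, one_smul] at h4
      exact h4
  · exfalso
    have h7 : Q (g p) = 0 := by rw [mem_O.1 hg, h.qp]
    rw [h4, h5, one_smul, one_smul] at h7
    have h8 : q + (polar Q q (g x) • p + p) = q + (polar Q q (g x) + 1) • p := by module
    rw [h8, Q_add, QuadraticMap.map_smul, polar_smul_right, h.qp, h.qq, PQ.qp' h2 h] at h7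
    simp at h7

/-- Elements fixing `p` and `q` are in `D`. -/
theorem OC.mem_D (oc : OC Q D N) (hQ : Nondeg Q) {p q : V} (h : PQ Q p q) (hw : T Q p q ∈ N)
    {g : V ≃ₗ[F] V} (hg : g ∈ E Q) (hc : g * T Q p q = T Q p q * g) : g ∈ D :=
  oc.cenN _ hw (PQ.T_ne_one h2 hQ h) h2.T_sq g hg hc

/-- `N ∩ Q_p = ⟨w⟩`. -/
theorem OC.step1 [Finite F] (oc : OC Q D N) (hQ : Nondeg Q) (hd : 8 ≤ Module.finrank F V) {p q : V}
    (h : PQ Q p q) (hw : T Q p q ∈ N) {v : V} (hv : polar Q p v = 0) (hN : T Q p v ∈ N) :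
    v = 0 ∨ v = p ∨ v = q ∨ v = q + p := by
  have : FiniteDimensional F V := Module.finite_of_finrank_pos (by omega)
  by_contra hcon
  push Not at hcon
  obtain ⟨n0, np, nq, nqp⟩ := hcon
  rcases h2 (Q v) with hv1 | hv1
  · exact oc.sig _ _ (h2.ln h.qp hv1 hv h.p0 n0 np) hN
  rcases h2 (polar Q q v) with hq | hq
  · have h3 : T Q p (q + v) ∈ N := by
      rw [← T_mul h.qp h.pq hv]
      exact N.mul_mem hw hN
    refine oc.sig _ _ (h2.ln h.qp ?_ ?_ h.p0 ?_ ?_) h3
    · rw [Q_add, h.qq, hv1, hq, add_zero, h2.two]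
    · rw [polar_add_right, h.pq, hv, add_zero]
    · intro e
      exact nq (h2.eq_of_add e).symm
    · intro e
      apply nqp
      rw [← e, ← add_assoc, h2.add_self, zero_add]
  · obtain ⟨r, hr, hr1, hrp⟩ := exists_sing_avoid (Q := Q) ![p, q, v] (Submodule.span F {p}) (by
      have := finrank_span_singleton_le (F := F) p
      omega)
    have hpr : polar Q p r = 0 := hr1 0
    have hqr : polar Q q r = 0 := hr1 1
    have hvr : polar Q v r = 0 := hr1 2
    have hvS : v ∉ Submodule.span F {p, q, r} := by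
      intro hmem
      have hle : Submodule.span F {p, q, r} ≤ LinearMap.ker (polarBilin Q q) := by
        rw [Submodule.span_le]
        rintro z (rfl | rfl | rfl)
        · simpa using PQ.qp' h2 h
        · simpa using h2.polar_self (Q := Q) z
        · simpa using hqr
      have := hle hmem
      rw [LinearMap.mem_ker, polarBilin_apply_apply, hq] at this
      exact one_ne_zero this
    obtain ⟨s, hs1, hs2⟩ := exists_sep_sub hQ hvS
    have hps : polar Q p s = 0 := hs2 p (Submodule.subset_span (by simp))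
    have hqs : polar Q q s = 0 := hs2 q (Submodule.subset_span (by simp))
    have hrs : polar Q r s = 0 := hs2 r (Submodule.subset_span (by simp))
    have gp : T Q r s p = p := T_fix (by rw [polar_comm, hpr]) (by rw [polar_comm, hps])
    have gq : T Q r s q = q := T_fix (by rw [polar_comm, hqr]) (by rw [polar_comm, hqs])
    have gv : T Q r s v = v + r := by
      rw [h2.T_perp hr hrs (by rw [polar_comm, hvr]), polar_comm Q s v, hs1, one_smul]
    have gD : T Q r s ∈ D := OC.mem_D h2 oc hQ h hw (T_mem_E r s) (comm_of_fix (T_mem_O r s) gp gq)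
    have h3 := oc.norm _ gD _ hN
    rw [T_conj (T_mem_O r s), gp, gv] at h3
    have h4 := N.mul_mem hN h3
    have hvr' : polar Q p (v + r) = 0 := by rw [polar_add_right, hv, hpr, add_zero]
    rw [T_mul h.qp hv hvr', ← add_assoc, h2.add_self, zero_add] at h4
    have hr0 : r ≠ 0 := fun e => hrp (by rw [e]; exact Submodule.zero_mem _)
    have hrp' : r ≠ p := fun e => hrp (by rw [e]; exact Submodule.mem_span_singleton_self _)
    exact oc.sig _ _ (h2.ln h.qp hr hpr h.p0 hr0 hrp') h4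

/-- `[g, Q_p] ≤ N ∩ Q_p`. -/
theorem OC.step2 [Finite F] (oc : OC Q D N) (hQ : Nondeg Q) (hd : 8 ≤ Module.finrank F V) {p q : V}
    (h : PQ Q p q) (hw : T Q p q ∈ N) {g : V ≃ₗ[F] V} (hg : Gd Q N (T Q p q) g) {v : V}
    (hv : polar Q p v = 0) (hqv : polar Q q v = 0) : g v = v ∨ g v = v + p := by
  have gp := PQ.fix_p h2 hQ h hg.mO hg.comm
  have hpv : polar Q p (g v) = 0 := by
    have := polar_map hg.mO p v
    rw [gp] at this
    rw [this, hv]
  have h3 := hg.mem (T Q p v) (T_mem_E p v) (T_comm h.qp hv h.pq)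
  rw [T_conj hg.mO, gp, h2.T_inv, T_mul h.qp hpv hv] at h3
  have hpv2 : polar Q p (g v + v) = 0 := by rw [polar_add_right, hpv, hv, add_zero]
  have hQg : Q (g v) = Q v := mem_O.1 hg.mO v
  have key : ∀ z, g v + v = z → g v = v + z := by
    intro z hz
    rw [← hz, add_comm (g v) v, ← add_assoc, h2.add_self, zero_add]
  rcases OC.step1 h2 oc hQ hd h hw hpv2 h3 with h4 | h4 | h4 | h4
  · left
    have := key _ h4
    rwa [add_zero] at this
  · right
    exact key _ h4
  · exfalso
    rw [key _ h4, Q_add, h.qq, polar_comm, hqv, add_zero] at hQg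
    exact one_ne_zero (by linear_combination hQg : (1 : F) = 0)
  · exfalso
    rw [key _ h4, Q_add, (PQ.sw h2 h).qq, polar_add_right, polar_comm Q v q, hqv, polar_comm Q v p, hv] at hQg
    exact one_ne_zero (by linear_combination hQg : (1 : F) = 0)

/-- `g` is trivial on `⟨p, q⟩^⊥`. -/
theorem OC.step3 [Finite F] (oc : OC Q D N) (hQ : Nondeg Q) (hd : 8 ≤ Module.finrank F V) {p q : V}
    (h : PQ Q p q) (hw : T Q p q ∈ N) {g : V ≃ₗ[F] V} (hg : Gd Q N (T Q p q) g) {s : V}
    (hs : polar Q p s = 0) (hqs : polar Q q s = 0) : g s = s := by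
  have gp := PQ.fix_p h2 hQ h hg.mO hg.comm
  rcases OC.step2 h2 oc hQ hd h hw hg hs hqs with h3 | h3
  · exact h3
  exfalso
  obtain ⟨y, hy⟩ := hQ.exists_polar_eq h.p0 1
  obtain ⟨r, hr, hr1, hrp⟩ := exists_sing_avoid (Q := Q) ![p, q, s, y + g y] (Submodule.span F {p}) (by
    have := finrank_span_singleton_le (F := F) p
    omega)
  have hpr : polar Q p r = 0 := hr1 0
  have hqr : polar Q q r = 0 := hr1 1
  have hsr : polar Q s r = 0 := hr1 2
  have hyr : polar Q (y + g y) r = 0 := hr1 3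
  have hr0 : r ≠ 0 := fun e => hrp (by rw [e]; exact Submodule.zero_mem _)
  have hrp' : r ≠ p := fun e => hrp (by rw [e]; exact Submodule.mem_span_singleton_self _)
  have gr : g r = r := by
    rcases OC.step2 h2 oc hQ hd h hw hg hpr hqr with h4 | h4
    · exact h4
    · exfalso
      have h5 := polar_map hg.mO r y
      have h6 : polar Q p (g y) = 1 := by
        have := polar_map hg.mO p y
        rw [gp] at this
        rw [this, hy]
      rw [h4, polar_add_left, h6, polar_comm Q r (g y), polar_comm Q r y] at h5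
      rw [polar_add_left] at hyr
      have h7 := h2.addF (polar Q (g y) r)
      exact one_ne_zero (by linear_combination h5 + hyr - h7 : (1 : F) = 0)
  have hrs : polar Q r s = 0 := by rw [polar_comm, hsr]
  have hrp2 : polar Q r p = 0 := by rw [polar_comm, hpr]
  have ep : T Q r s p = p := T_fix hrp2 (by rw [polar_comm, hs])
  have eq : T Q r s q = q := T_fix (by rw [polar_comm, hqr]) (by rw [polar_comm, hqs])
  have h5 := hg.mem (T Q r s) (T_mem_E r s) (comm_of_fix (T_mem_O r s) ep eq)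
  have hrsp : polar Q r (s + p) = 0 := by rw [polar_add_right, hrs, hrp2, add_zero]
  rw [T_conj hg.mO, gr, h3, h2.T_inv, T_mul hr hrsp hrs, add_comm s p, add_assoc, h2.add_self, add_zero] at h5
  exact oc.sig _ _ (h2.ln hr h.qp hrp2 hr0 h.p0 hrp'.symm) h5

/-- Vectors orthogonal to the orthogonal complement of `p, q`. -/
theorem mem_pair (hQ : Nondeg Q) [FiniteDimensional F V] {p q z : V}
    (h : ∀ x, polar Q p x = 0 → polar Q q x = 0 → polar Q z x = 0) : z = 0 ∨ z = p ∨ z = q ∨ z = p + q := by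
  rw [← h2.mem_span_pair]
  by_contra hn
  obtain ⟨y, hy1, hy2⟩ := exists_sep_sub hQ hn
  have := h y (hy2 p (Submodule.subset_span (by simp))) (hy2 q (Submodule.subset_span (by simp)))
  rw [hy1] at this
  exact one_ne_zero this

theorem refl_apply2 {q : V} (hq : Q q = 1) (hq' : Q q ≠ 0) (x : V) :
    refl Q q hq' x = x + polar Q q x • q := by
  rw [refl_apply, hq, h2.sub_eq, inv_one, one_mul]

/-- Isometries which are trivial on `⟨p, q⟩^⊥`. -/
theorem PQ.four (hQ : Nondeg Q) [FiniteDimensional F V] {p q : V} (h : PQ Q p q) {g : V ≃ₗ[F] V} (hg : g ∈ O Q)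
    (hfix : ∀ x, polar Q p x = 0 → polar Q q x = 0 → g x = x) (hq' : Q q ≠ 0) :
    g = 1 ∨ g = T Q p q ∨ g = refl Q q hq' ∨ g = T Q p q * refl Q q hq' := by
  obtain ⟨e0, he0q, he0p⟩ := exists_sep hQ (PQ.nsm' h2 h)
  obtain ⟨e1, he1p, he1q⟩ := exists_sep hQ (PQ.nsm h2 h)
  have agree : ∀ g' : V ≃ₗ[F] V, (∀ x, polar Q p x = 0 → polar Q q x = 0 → g' x = x) → g' e0 = g e0 →
      g' e1 = g e1 → g = g' := by
    intro g' h3 h4 h5
    ext x
    have h6 : x = polar Q p x • e0 + polar Q q x • e1 + (x - polar Q p x • e0 - polar Q q x • e1) := by module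
    have h7 : polar Q p (x - polar Q p x • e0 - polar Q q x • e1) = 0 := by
      rw [polar_sub_right, polar_sub_right, polar_smul_right, polar_smul_right, he0p, he1p]
      simp
    have h8 : polar Q q (x - polar Q p x • e0 - polar Q q x • e1) = 0 := by
      rw [polar_sub_right, polar_sub_right, polar_smul_right, polar_smul_right, he0q, he1q]
      simp
    rw [h6, map_add, map_add, map_smul, map_smul, hfix _ h7 h8, map_add, map_add, map_smul, map_smul,
      h3 _ h7 h8, h4, h5]
  have hz : ∀ e : V, ∀ x, polar Q p x = 0 → polar Q q x = 0 → polar Q (g e + e) x = 0 := by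
    intro e x hx1 hx2
    have h3 := polar_map hg e x
    rw [hfix x hx1 hx2] at h3
    rw [polar_add_left, h3]
    exact h2.addF _
  have hz1 := mem_pair h2 hQ (hz e1)
  have hz0 := mem_pair h2 hQ (hz e0)
  have key : ∀ e z, g e + e = z → g e = e + z := by
    intro e z hz
    rw [← hz, add_comm (g e) e, ← add_assoc, h2.add_self, zero_add]
  have he0p' : polar Q e0 p = 1 := by rw [polar_comm, he0p]
  have he0q' : polar Q e0 q = 0 := by rw [polar_comm, he0q]
  have he1p' : polar Q e1 p = 0 := by rw [polar_comm, he1p]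
  have he1q' : polar Q e1 q = 1 := by rw [polar_comm, he1q]
  have hqp := PQ.qp' h2 h
  have hqq : polar Q q q = 0 := h2.polar_self _
  have hpp : polar Q p p = 0 := h2.polar_self _
  have hQ0 : Q (g e0) = Q e0 := mem_O.1 hg e0
  -- `g e0 = e0` or `g e0 = e0 + (p + q)`
  have h0 : g e0 = e0 ∨ g e0 = e0 + (p + q) := by
    rcases hz0 with h3 | h3 | h3 | h3
    · left
      have := key _ _ h3
      rwa [add_zero] at this
    · exfalso
      rw [key _ _ h3, Q_add, h.qp, he0p'] at hQ0
      exact one_ne_zero (by linear_combination hQ0 : (1 : F) = 0)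
    · exfalso
      rw [key _ _ h3, Q_add, h.qq, he0q'] at hQ0
      exact one_ne_zero (by linear_combination hQ0 : (1 : F) = 0)
    · right
      exact key _ _ h3
  have hB := polar_map hg e0 e1
  have tfix : ∀ x, polar Q p x = 0 → polar Q q x = 0 → refl Q q hq' x = x := by
    intro x _ hx2
    rw [refl_apply2 h2 h.qq, hx2, zero_smul, add_zero]
  have wfix : ∀ x, polar Q p x = 0 → polar Q q x = 0 → T Q p q x = x := by
    intro x hx1 hx2
    exact T_fix hx1 hx2
  have w0 : T Q p q e0 = e0 + (p + q) := by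
    rw [PQ.T_apply h2 h, he0p, he0q]
    module
  have w1 : T Q p q e1 = e1 + p := by
    rw [PQ.T_apply h2 h, he1p, he1q]
    module
  have t0 : refl Q q hq' e0 = e0 := by
    rw [refl_apply2 h2 h.qq, he0q, zero_smul, add_zero]
  have t1 : refl Q q hq' e1 = e1 + q := by
    rw [refl_apply2 h2 h.qq, he1q, one_smul]
  have wq : T Q p q q = q := T_fix h.pq (h2.polar_self q)
  rcases hz1 with h3 | h3 | h3 | h3
  · have g1 : g e1 = e1 := by
      have := key _ _ h3
      rwa [add_zero] at this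
    rcases h0 with g0 | g0
    · left
      exact agree 1 (fun x _ _ => rfl) g0.symm g1.symm
    · exfalso
      rw [g0, g1, polar_add_left, polar_add_left, he1p, he1q] at hB
      exact one_ne_zero (by linear_combination hB : (1 : F) = 0)
  · have g1 := key _ _ h3
    rcases h0 with g0 | g0
    · exfalso
      rw [g0, g1, polar_add_right, he0p'] at hB
      exact one_ne_zero (by linear_combination hB : (1 : F) = 0)
    · right; left
      exact agree _ wfix (w0.trans g0.symm) (w1.trans g1.symm)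
  · have g1 := key _ _ h3
    rcases h0 with g0 | g0
    · right; right; left
      exact agree _ tfix (t0.trans g0.symm) (t1.trans g1.symm)
    · exfalso
      rw [g0, g1] at hB
      simp only [polar_add_left, polar_add_right, he1p, he1q, he0q', h.pq, hqq] at hB
      exact one_ne_zero (by linear_combination hB : (1 : F) = 0)
  · have g1 := key _ _ h3
    rcases h0 with g0 | g0
    · exfalso
      rw [g0, g1] at hB
      simp only [polar_add_right, he0p', he0q'] at hB
      exact one_ne_zero (by linear_combination hB : (1 : F) = 0)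
    · right; right; right
      refine agree _ (fun x hx1 hx2 => ?_) ?_ ?_
      · show T Q p q (refl Q q hq' x) = x
        rw [tfix x hx1 hx2, wfix x hx1 hx2]
      · show T Q p q (refl Q q hq' e0) = _
        rw [t0, w0, g0]
      · show T Q p q (refl Q q hq' e1) = _
        rw [t1, map_add, w1, wq, g1, add_assoc]

/-- `T p v` from three involutions of type `c₂`. -/
theorem PQ.prod3 {p q v : V} (h : PQ Q p q) (hv : Q v = 0) (hv0 : v ≠ 0) (hpv : polar Q p v = 0)
    (hqv : polar Q q v = 0) : T Q p q * (T Q v q * T Q (p + v) q) = T Q p v := by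
  have hvq : polar Q v q = 0 := by rw [polar_comm, hqv]
  have hvp : polar Q v p = 0 := by rw [polar_comm, hpv]
  have hs : Q (p + v) = 0 := by rw [Q_add, h.qp, hv, hpv]; simp
  have hsq : polar Q (p + v) q = 0 := by rw [polar_add_left, h.pq, hvq, add_zero]
  have hqp := PQ.qp' h2 h
  have hqq : polar Q q q = 0 := h2.polar_self _
  have hpp : polar Q p p = 0 := h2.polar_self _
  have hvv : polar Q v v = 0 := h2.polar_self _
  have h22 := h2.two'
  ext x
  show T Q p q (T Q v q (T Q (p + v) q x)) = T Q p v x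
  rw [h2.T_apply hs hsq, h2.T_apply hv hvq, h2.T_apply h.qp h.pq, h2.T_apply h.qp hpv]
  simp only [polar_add_right, polar_add_left, polar_smul_right, h.qq, hv, hvq, hvp, hpv, hqv, hqp, hqq, hpp, hvv,
    h.pq, smul_eq_mul, mul_zero, add_zero, zero_add, one_mul, zero_mul, zero_smul]
  generalize polar Q p x = a
  generalize polar Q v x = b
  generalize polar Q q x = c
  rw [← sub_eq_zero]
  have : x + (a + b) • q + c • (p + v) + (a + b) • (p + v) + b • q + c • v + b • v + a • q + c • p + a • p -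
      (x + a • v + b • p) = (2 * (a + b)) • q + (2 * c + 2 * a) • p + (2 * c + 2 * b) • v := by module
  refine Eq.trans ?_ (this.trans ?_)
  · module
  · rw [h22]; simp

/-- The centraliser of the reflection `t_q` is not in `D` if `T p q ∈ N`. -/
theorem OC.no_refl [Finite F] (oc : OC Q D N) (hQ : Nondeg Q) (hd : 8 ≤ Module.finrank F V) {p q : V}
    (h : PQ Q p q) (hw : T Q p q ∈ N) (hq' : Q q ≠ 0)
    (hC : ∀ x ∈ E Q, x * refl Q q hq' = refl Q q hq' * x → x ∈ D) : False := by
  have : FiniteDimensional F V := Module.finite_of_finrank_pos (by omega)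
  obtain ⟨v, hv, hv1, hvp⟩ := exists_sing_avoid (Q := Q) ![p, q] (Submodule.span F {p}) (by
    have := finrank_span_singleton_le (F := F) p
    omega)
  have hpv : polar Q p v = 0 := hv1 0
  have hqv : polar Q q v = 0 := hv1 1
  have hv0 : v ≠ 0 := fun e => hvp (by rw [e]; exact Submodule.zero_mem _)
  have hvp' : v ≠ p := fun e => hvp (by rw [e]; exact Submodule.mem_span_singleton_self _)
  have hvq : v ≠ q := by
    rintro rfl
    exact hq' hv
  have hpp : polar Q p p = 0 := h2.polar_self _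
  have hcomm : ∀ g : V ≃ₗ[F] V, g ∈ E Q → g q = q → g ∈ D := by
    intro g hg hgq
    apply hC g hg
    have h3 : Q (g q) ≠ 0 := by rw [hgq]; exact hq'
    have h4 := refl_conj (E_le_O hg) hq' h3
    have h5 : refl Q (g q) h3 = refl Q q hq' := by
      congr 1
    rw [h5, mul_inv_eq_iff_eq_mul] at h4
    exact h4
  have hpN : p ∉ Submodule.span F {q, p + v} := by
    rw [h2.mem_span_pair]
    rintro (e | e | e | e)
    · exact h.p0 e
    · exact PQ.ne h2 h e
    · exact hv0 (by simpa using e)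
    · have e2 : q + v = 0 := by
        have : p + (q + v) = p + 0 := by rw [add_zero]; nth_rewrite 2 [e]; abel
        exact add_left_cancel this
      exact hvq (h2.eq_of_add e2).symm
  obtain ⟨s, hs1, hs2⟩ := exists_sep_sub hQ hpN
  have hqs : polar Q q s = 0 := hs2 q (Submodule.subset_span (by simp))
  have hpvs : polar Q (p + v) s = 0 := hs2 (p + v) (Submodule.subset_span (by simp))
  have hQpv : Q (p + v) = 0 := by rw [Q_add, h.qp, hv, hpv]; simp
  have hqp := PQ.qp' h2 h
  have a1 : T Q (p + v) s p = v := by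
    rw [h2.T_perp hQpv hpvs (by rw [polar_add_left, hpp, polar_comm Q v p, hpv, add_zero]), polar_comm Q s p,
      hs1, one_smul, ← add_assoc, h2.add_self, zero_add]
  have a2 : T Q (p + v) s q = q := T_fix (by rw [polar_add_left, h.pq, polar_comm Q v q, hqv, add_zero])
    (by rw [polar_comm, hqs])
  have hpN' : p ∉ Submodule.span F {q, v} := by
    rw [h2.mem_span_pair]
    rintro (e | e | e | e)
    · exact h.p0 e
    · exact PQ.ne h2 h e
    · exact hvp' e.symm
    · have e2 : Q p = Q (q + v) := by rw [← e]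
      rw [Q_add, h.qp, h.qq, hv, hqv] at e2
      simp at e2
  obtain ⟨s', hs1', hs2'⟩ := exists_sep_sub hQ hpN'
  have hqs' : polar Q q s' = 0 := hs2' q (Submodule.subset_span (by simp))
  have hvs' : polar Q v s' = 0 := hs2' v (Submodule.subset_span (by simp))
  have b1 : T Q v s' p = p + v := by
    rw [h2.T_perp hv hvs' (by rw [polar_comm, hpv]), polar_comm Q s' p, hs1', one_smul]
  have b2 : T Q v s' q = q := T_fix (by rw [polar_comm, hqv]) (by rw [polar_comm, hqs'])
  have n1 := oc.norm _ (hcomm _ (T_mem_E _ _) a2) _ hw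
  rw [T_conj (T_mem_O _ _), a1, a2] at n1
  have n2 := oc.norm _ (hcomm _ (T_mem_E _ _) b2) _ hw
  rw [T_conj (T_mem_O _ _), b1, b2] at n2
  have n3 := N.mul_mem hw (N.mul_mem n1 n2)
  rw [PQ.prod3 h2 h hv hv0 hpv hqv] at n3
  exact oc.sig _ _ (h2.ln h.qp hv hpv h.p0 hv0 hvp') n3

end

end Cfsg.Agent.OddHalf.D4.O2

end

-- merged: Cfsg.Agent.OddHalf.D4.O2.Kill
section

/-!
# ODD, D4, rows `Ω^±_2n(2)`: products of two commuting root elements are not in `N`
-/

set_option autoImplicit false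
set_option linter.unusedSectionVars false

namespace Cfsg.Agent.OddHalf.D4.O2

open QuadraticMap Cfsg.Agent.LieClassical.OrthCore Cfsg.Agent.LieClassical.OrthTrans
  Cfsg.Agent.ClassicalGeometry.OrthAutBasic Cfsg.Agent.ClassicalGeometry.OrthAutRoot
  Cfsg.Agent.ClassicalGeometry.OrthAutSylow Cfsg.Agent.OddHalf.D4.SigmaEnd

variable {F V : Type*} [Field F] [AddCommGroup V] [Module F V] {Q : QuadraticForm F V}

/-- The four-group `⟨a, b⟩` and the traces `D`, `N`. -/
structure OConf (Q : QuadraticForm F V) (D N : Subgroup (V ≃ₗ[F] V)) (a b : V ≃ₗ[F] V) : Prop extends OC Q D N where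
  aO : a ∈ O Q
  bO : b ∈ O Q
  aa : a * a = 1
  bb : b * b = 1
  ab : a * b = b * a
  a1 : a ≠ 1
  b1 : b ≠ 1
  ne : a ≠ b
  cen : ∀ y, (y = a ∨ y = b ∨ y = a * b) → ∀ x ∈ E Q, x * y = y * x → x ∈ D
  comm : ∀ y, (y = a ∨ y = b ∨ y = a * b) → ∀ d ∈ D, y * d * y⁻¹ * d⁻¹ ∈ N
  core : NoOdd N

section

variable (h2 : Two F) {D N : Subgroup (V ≃ₗ[F] V)}

include h2

theorem PQ.refl_sw {p q : V} (h : PQ Q p q) (hq : Q q ≠ 0) (hq' : Q (q + p) ≠ 0) :
    T Q p q * refl Q q hq = refl Q (q + p) hq' := by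
  ext x
  show T Q p q (refl Q q hq x) = _
  rw [refl_apply2 h2 h.qq, refl_apply2 h2 (PQ.sw h2 h).qq, PQ.T_apply h2 h]
  simp only [polar_add_right, polar_add_left, polar_smul_right, h.pq, h2.polar_self, smul_eq_mul, mul_zero,
    add_zero]
  module

/-- Elements of `N` centralising `w ∈ N`. -/
theorem OC.gd (oc : OC Q D N) {w : V ≃ₗ[F] V} (hw : w ∈ N) (hw1 : w ≠ 1) (hw2 : w * w = 1) {n : V ≃ₗ[F] V}
    (hn : n ∈ N) (hc : n * w = w * n) : Gd Q N w n where
  mO := E_le_O (oc.DE (oc.le hn))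
  comm := hc
  mem h hh hhw := by
    have h3 := oc.norm h (oc.cenN w hw hw1 hw2 h hh hhw) _ (N.inv_mem hn)
    have h4 : n * h * n⁻¹ * h⁻¹ = n * (h * n⁻¹ * h⁻¹) := by group
    rw [h4]
    exact N.mul_mem hn h3

/-- If `N = {1, w}`, then `a`, `b`, `a b` centralise `w`. -/
theorem OConf.gd {a b : V ≃ₗ[F] V} (oc : OConf Q D N a b) {w : V ≃ₗ[F] V} (hw : w ∈ N) (hw1 : w ≠ 1)
    (hw2 : w * w = 1) (hN : ∀ n ∈ N, n = 1 ∨ n = w) {y : V ≃ₗ[F] V} (hy : y = a ∨ y = b ∨ y = a * b) :
    Gd Q N w y where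
  mO := by
    rcases hy with rfl | rfl | rfl
    · exact oc.aO
    · exact oc.bO
    · exact (O Q).mul_mem oc.aO oc.bO
  comm := by
    have h3 := oc.comm y hy w (oc.le hw)
    rcases hN _ h3 with h4 | h4
    · calc y * w = (y * w * y⁻¹ * w⁻¹) * (w * y) := by group
        _ = w * y := by rw [h4, one_mul]
    · exfalso
      apply hw1
      have h5 : y * w * y⁻¹ = 1 := by
        calc y * w * y⁻¹ = (y * w * y⁻¹ * w⁻¹) * w := by group
          _ = w * w := by rw [h4]
          _ = 1 := hw2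
      calc w = y⁻¹ * (y * w * y⁻¹) * y := by group
        _ = 1 := by rw [h5]; group
  mem h hh hhw := oc.comm y hy h (oc.cenN w hw hw1 hw2 h hh hhw)

/-- **Involutions of type `c₂` are not in `N`.** -/
theorem OConf.c2 [Finite (V ≃ₗ[F] V)] (hQ : Nondeg Q) (hd : 8 ≤ Module.finrank F V) {a b : V ≃ₗ[F] V}
    (oc : OConf Q D N a b) {p q : V} (h : PQ Q p q) : T Q p q ∉ N := by
  intro hw
  have := h2.finite
  have hfd : FiniteDimensional F V := Module.finite_of_finrank_pos (by omega)
  have hq' : Q q ≠ 0 := by rw [h.qq]; exact one_ne_zero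
  have hqp' : Q (q + p) ≠ 0 := by rw [(PQ.sw h2 h).qq]; exact one_ne_zero
  set w := T Q p q with hwdef
  have hw1 : w ≠ 1 := PQ.T_ne_one h2 hQ h
  have hw2 : w * w = 1 := h2.T_sq
  have four : ∀ g, Gd Q N w g → g = 1 ∨ g = w ∨ g = refl Q q hq' ∨ g = w * refl Q q hq' := fun g hg =>
    PQ.four h2 hQ h hg.mO (fun x hx1 hx2 => OC.step3 h2 oc.toOC hQ hd h hw hg hx1 hx2) hq'
  have tN : refl Q q hq' ∉ N := by
    intro ht
    refine OC.no_refl h2 oc.toOC hQ hd h hw hq' (oc.cenN _ ht ?_ (refl_mul_self hq'))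
    intro e
    obtain ⟨y, hy⟩ := hQ.exists_polar_eq (PQ.q0 h2 h) 1
    have h3 : refl Q q hq' y = y := by rw [e]; rfl
    rw [refl_apply2 h2 h.qq, hy, one_smul] at h3
    exact PQ.q0 h2 h (by simpa using h3)
  have hC : ∀ n ∈ N, n * w = w * n → n = 1 ∨ n = w := by
    intro n hn hc
    rcases four n (OC.gd h2 oc.toOC hw hw1 hw2 hn hc) with h3 | h3 | h3 | h3
    · exact Or.inl h3
    · exact Or.inr h3
    · exact absurd (h3 ▸ hn) tN
    · exfalso
      apply tN
      have h4 := N.mul_mem hw hn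
      rw [h3, ← mul_assoc, hw2, one_mul] at h4
      exact h4
  have hN := eq_pair_of_self hw hw2 hw1 hC oc.core
  have key : ∀ y, (y = a ∨ y = b ∨ y = a * b) → y ≠ 1 → y = w := by
    intro y hy hy1
    rcases four y (OConf.gd h2 oc hw hw1 hw2 hN hy) with h3 | h3 | h3 | h3
    · exact absurd h3 hy1
    · exact h3
    · exfalso
      refine OC.no_refl h2 oc.toOC hQ hd h hw hq' fun x hx hxc => oc.cen y hy x hx ?_
      rw [h3]; exact hxc
    · exfalso
      rw [hwdef, PQ.refl_sw h2 h hq' hqp'] at h3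
      have hw' : T Q p (q + p) ∈ N := by rw [h2.T_add_self h.qp h.pq]; exact hw
      refine OC.no_refl h2 oc.toOC hQ hd (PQ.sw h2 h) hw' hqp' fun x hx hxc => oc.cen y hy x hx ?_
      rw [h3]; exact hxc
  exact oc.ne ((key a (Or.inl rfl) oc.a1).trans (key b (Or.inr (Or.inl rfl)) oc.b1).symm)

/-! ### Type `a_k`, `k ≥ 4` -/

/-- `[V, g]` -/
abbrev DD (g : V ≃ₗ[F] V) : Submodule F V := Cfsg.Agent.ClassicalGeometry.OrthAutRoot.D g

/-- Involutions of type `a_k`, `k ≥ 4`. -/
structure AK (Q : QuadraticForm F V) (w : V ≃ₗ[F] V) : Prop where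
  mO : w ∈ O Q
  sq : w * w = 1
  al : ∀ x, polar Q x (w x) = 0
  rk : 4 ≤ Module.finrank F (DD w)

omit h2 in
theorem AK.app {w : V ≃ₗ[F] V} (h : AK Q w) (x : V) : w (w x) = x :=
  congrArg (fun f : V ≃ₗ[F] V => f x) h.sq

theorem mem_D2 {w : V ≃ₗ[F] V} {u : V} : u ∈ DD w ↔ ∃ x, w x + x = u := by
  rw [Cfsg.Agent.ClassicalGeometry.OrthAutRoot.mem_D]
  constructor
  · rintro ⟨x, hx⟩
    exact ⟨x, by rw [← hx, h2.sub_eq]⟩
  · rintro ⟨x, hx⟩
    exact ⟨x, by rw [← hx, h2.sub_eq]⟩

theorem AK.fix {w : V ≃ₗ[F] V} (h : AK Q w) {u : V} (hu : u ∈ DD w) : w u = u := by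
  obtain ⟨x, rfl⟩ := (mem_D2 h2).1 hu
  rw [map_add, h.app, add_comm]

theorem AK.sing {w : V ≃ₗ[F] V} (h : AK Q w) {u : V} (hu : u ∈ DD w) : Q u = 0 := by
  obtain ⟨x, rfl⟩ := (mem_D2 h2).1 hu
  rw [Q_add, mem_O.1 h.mO, polar_comm, h.al, add_zero]
  exact h2.addF _

/-- `[V, w]` is orthogonal to the fixed vectors. -/
theorem AK.perp {w : V ≃ₗ[F] V} (h : AK Q w) {u v : V} (hu : u ∈ DD w) (hv : w v = v) :
    polar Q u v = 0 := by
  obtain ⟨x, rfl⟩ := (mem_D2 h2).1 hu
  have h3 := polar_map h.mO x v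
  rw [hv] at h3
  rw [polar_add_left, h3]
  exact h2.addF _

theorem AK.fix_of {w : V ≃ₗ[F] V} (h : AK Q w) (hQ : Nondeg Q) {v : V}
    (hv : ∀ u ∈ DD w, polar Q u v = 0) : w v = v := by
  apply h2.eq_of_add
  apply hQ
  intro x
  have h3 := hv (w x + x) ((mem_D2 h2).2 ⟨x, rfl⟩)
  rw [polar_add_left] at h3
  have h4 := polar_map h.mO x (w v)
  rw [h.app] at h4
  rw [polar_comm, polar_add_right, ← h4]
  exact h3

theorem AK.mem_D_of {w : V ≃ₗ[F] V} (h : AK Q w) (hQ : Nondeg Q) [FiniteDimensional F V] {z : V}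
    (hz : ∀ v, w v = v → polar Q z v = 0) : z ∈ DD w := by
  by_contra hn
  obtain ⟨y, hy1, hy2⟩ := exists_sep_sub hQ hn
  have := hz y (AK.fix_of h2 h hQ hy2)
  rw [hy1] at this
  exact one_ne_zero this

/-- `τ_x = T (w x + x) x` centralises `w`. -/
theorem AK.tau {w : V ≃ₗ[F] V} (h : AK Q w) (x : V) :
    Q (w x + x) = 0 ∧ polar Q (w x + x) x = 0 ∧ T Q (w x + x) x * w = w * T Q (w x + x) x := by
  have hu : w x + x ∈ DD w := (mem_D2 h2).2 ⟨x, rfl⟩
  have h3 : Q (w x + x) = 0 := AK.sing h2 h hu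
  have h4 : polar Q (w x + x) x = 0 := by
    rw [polar_add_left, h2.polar_self, add_zero, polar_comm, h.al]
  refine ⟨h3, h4, ?_⟩
  have h5 := T_conj h.mO (w x + x) x
  have h6 : T Q (w x + x) (w x) = T Q (w x + x) x := by
    have h7 : w x = x + (w x + x) := by
      rw [add_comm x (w x + x), add_assoc, h2.add_self, add_zero]
    rw [← h2.T_add_self h3 h4]
    exact congrArg _ h7
  rw [AK.fix h2 h hu, h6, mul_inv_eq_iff_eq_mul] at h5
  exact h5.symm

/-- Elements which are trivial on the fixed vectors of `w`. -/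
theorem AK.two_of (oc : OC Q D N) (hQ : Nondeg Q) [FiniteDimensional F V] {w : V ≃ₗ[F] V} (h : AK Q w)
    {g : V ≃ₗ[F] V} (hg : g ∈ O Q) (hfix : ∀ v, w v = v → g v = v)
    (hc : ∀ x, g * T Q (w x + x) x * g⁻¹ * (T Q (w x + x) x)⁻¹ ∈ N) : g = 1 ∨ g = w := by
  have key : ∀ x, g x = x ∨ g x = w x := by
    intro x
    obtain ⟨t1, t2, _⟩ := AK.tau h2 h x
    have hu : w x + x ∈ DD w := (mem_D2 h2).2 ⟨x, rfl⟩
    have hz : g x + x ∈ DD w := by
      apply AK.mem_D_of h2 h hQ
      intro v hv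
      have h3 := polar_map hg x v
      rw [hfix v hv] at h3
      rw [polar_add_left, h3]
      exact h2.addF _
    have gu : g (w x + x) = w x + x := hfix _ (AK.fix h2 h hu)
    have h3 := hc x
    have h4 : polar Q (w x + x) (g x) = 0 := by
      have := polar_map hg (w x + x) x
      rw [gu] at this
      rw [this, t2]
    rw [T_conj hg, gu, h2.T_inv, T_mul t1 h4 t2] at h3
    by_cases hz0 : g x + x = 0
    · left; exact h2.eq_of_add hz0
    by_cases hu0 : w x + x = 0
    · left
      exact hfix x (h2.eq_of_add hu0)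
    by_cases hzu : g x + x = w x + x
    · right; exact add_right_cancel hzu
    exfalso
    refine oc.sig _ _ (h2.ln t1 (AK.sing h2 h hz) ?_ hu0 hz0 hzu) h3
    exact AK.perp h2 h hu (AK.fix h2 h hz)
  by_contra hcon
  push Not at hcon
  obtain ⟨c1, c2⟩ := hcon
  obtain ⟨x1, hx1⟩ : ∃ x, g x ≠ x := by
    by_contra hn
    push Not at hn
    exact c1 (LinearEquiv.ext hn)
  obtain ⟨x2, hx2⟩ : ∃ x, g x ≠ w x := by
    by_contra hn
    push Not at hn
    exact c2 (LinearEquiv.ext hn)
  have e1 := (key x1).resolve_left hx1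
  have e2 := (key x2).resolve_right hx2
  rcases key (x1 + x2) with h3 | h3
  · rw [map_add, e2] at h3
    exact hx1 (add_right_cancel h3)
  · rw [map_add, map_add, e1] at h3
    exact hx2 (add_left_cancel h3)

/-- `g` with `g w = w g`, `[g, C(w)] ≤ N` is `1` or `w`. -/
theorem AK.two_of_gd (oc : OC Q D N) (hQ : Nondeg Q) [FiniteDimensional F V]
    (hc2 : ∀ p q, PQ Q p q → T Q p q ∉ N) {w : V ≃ₗ[F] V} (h : AK Q w) (hw : w ∈ N) (hw1 : w ≠ 1) {g : V ≃ₗ[F] V}
    (hg : Gd Q N w g) : g = 1 ∨ g = w := by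
  have gw : ∀ x, g (w x) = w (g x) := fun x => congrArg (fun f : V ≃ₗ[F] V => f x) hg.comm
  have gD : ∀ u ∈ DD w, g u ∈ DD w := by
    intro u hu
    obtain ⟨x, rfl⟩ := (mem_D2 h2).1 hu
    exact (mem_D2 h2).2 ⟨g x, by rw [map_add, gw]⟩
  have tauD : ∀ x, T Q (w x + x) x ∈ D := fun x =>
    oc.cenN w hw hw1 h.sq _ (T_mem_E _ _) (AK.tau h2 h x).2.2
  have Tc : ∀ u v, w u = u → w v = v → T Q u v * w = w * T Q u v := fun u v hu hv =>
    (comm_of_fix h.mO hu hv).symm
  -- isotropic pairs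
  have iso : ∀ x r', r' ∈ DD w → polar Q x r' = 0 → w x + x ≠ 0 → r' ≠ 0 → r' ≠ w x + x →
      g (w x + x) = w x + x ∨ g (w x + x) = r' ∨ g (w x + x) = (w x + x) + r' := by
    intro x r' hr' hxr' hr0 hr'0 hne
    set r := w x + x with hrdef
    have hr : r ∈ DD w := (mem_D2 h2).2 ⟨x, rfl⟩
    have hln : Ln Q r r' := h2.ln (AK.sing h2 h hr) (AK.sing h2 h hr') (AK.perp h2 h hr (AK.fix h2 h hr')) hr0 hr'0 hne
    have hln' : Ln Q (g r) (g r') := hln.map hg.mO
    have h3 := hg.mem (T Q r r') (T_mem_E _ _) (Tc r r' (AK.fix h2 h hr) (AK.fix h2 h hr'))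
    rw [T_conj hg.mO, h2.T_inv] at h3
    have hfix3 : ∀ v, w v = v → (T Q (g r) (g r') * T Q r r') v = v := by
      intro v hv
      show T Q (g r) (g r') (T Q r r' v) = v
      rw [T_fix (AK.perp h2 h hr hv) (AK.perp h2 h hr' hv), T_fix (AK.perp h2 h (gD r hr) hv)
        (AK.perp h2 h (gD r' hr') hv)]
    have h4 := AK.two_of h2 oc hQ h (E_le_O (oc.DE (oc.le h3))) hfix3 (by
      intro x'
      have h5 := oc.norm _ (tauD x') _ (N.inv_mem h3)
      have h6 : ∀ n t : V ≃ₗ[F] V, n * t * n⁻¹ * t⁻¹ = n * (t * n⁻¹ * t⁻¹) := fun n t => by group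
      rw [h6]
      exact N.mul_mem h3 h5)
    have conv : ∀ v : V, v ∈ L F (g r) (g r') ↔ v = 0 ∨ v = g r ∨ v = g r' ∨ v = g r + g r' := fun v =>
      h2.mem_span_pair
    rcases h4 with h4 | h4
    · have h5 : T Q (g r) (g r') = T Q r r' := by
        rw [← h2.T_inv (Q := Q) (u := r) (w := r')]
        exact eq_inv_of_mul_eq_one_left h4
      have h6 := D_T hQ hln'
      rw [h5, D_T hQ hln] at h6
      have h7 : g r ∈ L F r r' := by rw [h6]; exact left_mem_L _ _
      rcases h2.mem_span_pair.1 h7 with h8 | h8 | h8 | h8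
      · exact absurd h8 hln'.ne
      · exact Or.inl h8
      · exact Or.inr (Or.inl h8)
      · exact Or.inr (Or.inr h8)
    · -- `w = T (g r) (g r') T r r'`
      obtain ⟨x', hx'⟩ := (mem_D2 h2).1 hr'
      have bx : ∀ y s, w y + y = s → polar Q r y = 0 → polar Q r' y = 0 → s ∈ L F (g r) (g r') := by
        intro y s hs hy1 hy2
        have h5 : w y = T Q (g r) (g r') y := by
          rw [← h4]
          show T Q (g r) (g r') (T Q r r' y) = _
          rw [T_fix hy1 hy2]
        rw [← hs, h5, h2.T_apply hln'.qu hln'.perp, hln'.qw, mem_L]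
        refine ⟨polar Q (g r') y, polar Q (g r) y, ?_⟩
        have h6 := h2.add_self y
        have h7 : y + polar Q (g r) y • g r' + polar Q (g r') y • g r + (0 * polar Q (g r) y) • g r + y =
            (y + y) + (polar Q (g r') y • g r + polar Q (g r) y • g r') := by
          rw [zero_mul, zero_smul]; abel
        rw [h7, h6, zero_add]
      have hrx : polar Q r x = 0 := (AK.tau h2 h x).2.1
      have hr'x : polar Q r' x = 0 := by rw [polar_comm, hxr']
      have hr'x' : polar Q r' x' = 0 := by rw [← hx']; exact (AK.tau h2 h x').2.1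
      have hrx' : polar Q r x' = 0 := by
        have h5 := polar_map h.mO x x'
        rw [← hx', polar_add_right] at hxr'
        have h6 := polar_map h.mO x (w x')
        rw [h.app] at h6
        rw [hrdef, polar_add_left, h6]
        exact hxr'
      have m1 := (conv _).1 (bx x r hrdef.symm hrx hr'x)
      have m2 := (conv _).1 (bx x' r' hx' hrx' hr'x')
      have g0 : g r ≠ 0 := hln'.ne
      have g0' : g r' ≠ 0 := hln'.ne'
      rcases m1 with m1 | m1 | m1 | m1
      · exact absurd m1 hr0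
      · exact Or.inl m1.symm
      · rcases m2 with m2 | m2 | m2 | m2
        · exact absurd m2 hr'0
        · exact Or.inr (Or.inl m2.symm)
        · exact absurd (m2.trans m1.symm) hne
        · right; right
          have h5 : r + r' = g r' + (g r + g r') := congrArg₂ (· + ·) m1 m2
          rw [h5, add_comm (g r') (g r + g r'), add_assoc, h2.add_self, add_zero]
      · rcases m2 with m2 | m2 | m2 | m2
        · exact absurd m2 hr'0
        · exact Or.inr (Or.inl m2.symm)
        · right; right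
          have h5 : r + r' = (g r + g r') + g r' := congrArg₂ (· + ·) m1 m2
          rw [h5, add_assoc, h2.add_self, add_zero]
        · exact absurd (m2.trans m1.symm) hne
  -- `g` is trivial on `[V, w]`
  have triv : ∀ u ∈ DD w, g u = u := by
    intro u hu
    by_cases hu0 : u = 0
    · rw [hu0, map_zero]
    obtain ⟨x, hx⟩ := (mem_D2 h2).1 hu
    let S : Submodule F V := DD w ⊓ LinearMap.ker (polarBilin Q x)
    have hS : 3 ≤ Module.finrank F S := by
      let f : DD w →ₗ[F] F := (polarBilin Q x).comp (DD w).subtype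
      have h3 := LinearMap.finrank_range_add_finrank_ker f
      have h4 : Module.finrank F (LinearMap.range f) ≤ 1 := by
        have := Submodule.finrank_le (LinearMap.range f)
        rwa [Module.finrank_self] at this
      have h5 : (LinearMap.ker f).map (DD w).subtype ≤ S := by
        rintro _ ⟨y, hy, rfl⟩
        exact ⟨y.2, hy⟩
      have h6 := Submodule.finrank_mono h5
      rw [Submodule.finrank_map_subtype_eq] at h6
      have := h.rk
      omega
    obtain ⟨r1, hr1, hr1u⟩ : ∃ r1 ∈ S, r1 ∉ Submodule.span F {u} := by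
      by_contra hn
      push Not at hn
      have h3 := Submodule.finrank_mono (show S ≤ Submodule.span F {u} from hn)
      have h4 := finrank_span_singleton_le (F := F) u
      omega
    obtain ⟨r2, hr2, hr2u⟩ : ∃ r2 ∈ S, r2 ∉ Submodule.span F {u, r1} := by
      by_contra hn
      push Not at hn
      have h3 := Submodule.finrank_mono (show S ≤ Submodule.span F {u, r1} from hn)
      have h4 := finrank_span_pair_le (F := F) u r1
      omega
    rw [h2.mem_span] at hr1u
    rw [h2.mem_span_pair] at hr2u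
    push Not at hr1u hr2u
    obtain ⟨a1, a2⟩ := hr1u
    obtain ⟨b1, b2, b3, b4⟩ := hr2u
    have hxr1 : polar Q x r1 = 0 := by simpa using hr1.2
    have hxr2 : polar Q x r2 = 0 := by simpa using hr2.2
    have i1 := iso x r1 hr1.1 hxr1 (by rw [hx]; exact hu0) a1 (by rw [hx]; exact a2)
    have i2 := iso x r2 hr2.1 hxr2 (by rw [hx]; exact hu0) b1 (by rw [hx]; exact b2)
    rw [hx] at i1 i2
    rcases i1 with i1 | i1 | i1
    · exact i1
    · rcases i2 with i2 | i2 | i2
      · exact i2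
      · exact absurd (i2.symm.trans i1) b3
      · exfalso
        apply b4
        rw [← i1, i2, ← add_assoc, h2.add_self, zero_add]
    · rcases i2 with i2 | i2 | i2
      · exact i2
      · exact absurd (i2.symm.trans i1) b4
      · exact absurd (add_left_cancel (i2.symm.trans i1)) b3
  -- two nonzero vectors in `[V, w]`
  obtain ⟨u1, hu1, hu10⟩ : ∃ u ∈ DD w, u ≠ 0 := by
    by_contra hn
    push Not at hn
    have h3 := Submodule.finrank_mono (show DD w ≤ ⊥ from fun x hx => by
      rw [hn x hx]; exact Submodule.zero_mem _)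
    have := h.rk
    rw [finrank_bot] at h3
    omega
  obtain ⟨u2, hu2, hu2n⟩ : ∃ u ∈ DD w, u ∉ Submodule.span F {u1} := by
    by_contra hn
    push Not at hn
    have h3 := Submodule.finrank_mono (show DD w ≤ Submodule.span F {u1} from hn)
    have h4 := finrank_span_singleton_le (F := F) u1
    have := h.rk
    omega
  rw [h2.mem_span] at hu2n
  push Not at hu2n
  obtain ⟨hu20, hu21⟩ := hu2n
  have trivV : ∀ v, w v = v → g v = v := by
    intro v hv
    have key : ∀ u ∈ DD w, u ≠ 0 → g v + v = 0 ∨ g v + v = u := by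
      intro u hu hu0
      have hqu := AK.sing h2 h hu
      have huv := AK.perp h2 h hu hv
      have h3 := hg.mem (T Q u v) (T_mem_E _ _) (Tc u v (AK.fix h2 h hu) hv)
      have hugv : polar Q u (g v) = 0 := by
        have := polar_map hg.mO u v
        rw [triv u hu] at this
        rw [this, huv]
      rw [T_conj hg.mO, triv u hu, h2.T_inv, T_mul hqu hugv huv] at h3
      have hz : polar Q u (g v + v) = 0 := by rw [polar_add_right, hugv, huv, add_zero]
      rcases h2 (Q (g v + v)) with h4 | h4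
      · by_contra hcon
        push Not at hcon
        exact oc.sig _ _ (h2.ln hqu h4 hz hu0 hcon.1 hcon.2) h3
      · exact absurd h3 (hc2 u _ ⟨hqu, hu0, hz, h4⟩)
    apply h2.eq_of_add
    rcases key u1 hu1 hu10 with h3 | h3
    · exact h3
    · rcases key u2 hu2 hu20 with h4 | h4
      · exact h4
      · exact absurd (h4.symm.trans h3) hu21
  exact AK.two_of h2 oc hQ h hg.mO trivV fun x => hg.mem _ (T_mem_E _ _) (AK.tau h2 h x).2.2

/-- **Involutions of type `a_k`, `k ≥ 4`, are not in `N`.** -/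
theorem OConf.ak [Finite (V ≃ₗ[F] V)] (hQ : Nondeg Q) (hd : 8 ≤ Module.finrank F V) {a b : V ≃ₗ[F] V}
    (oc : OConf Q D N a b) {w : V ≃ₗ[F] V} (h : AK Q w) (hw1 : w ≠ 1) : w ∉ N := by
  intro hw
  have hfd : FiniteDimensional F V := Module.finite_of_finrank_pos (by omega)
  have hc2 : ∀ p q, PQ Q p q → T Q p q ∉ N := fun p q hpq => OConf.c2 h2 hQ hd oc hpq
  have hN := eq_pair_of_self hw h.sq hw1 (fun n hn hc =>
    AK.two_of_gd h2 oc.toOC hQ hc2 h hw hw1 (OC.gd h2 oc.toOC hw hw1 h.sq hn hc)) oc.core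
  have key : ∀ y, (y = a ∨ y = b ∨ y = a * b) → y ≠ 1 → y = w := fun y hy hy1 =>
    (AK.two_of_gd h2 oc.toOC hQ hc2 h hw hw1 (OConf.gd h2 oc hw hw1 h.sq hN hy)).resolve_left hy1
  exact oc.ne ((key a (Or.inl rfl) oc.a1).trans (key b (Or.inr (Or.inl rfl)) oc.b1).symm)

end

end Cfsg.Agent.OddHalf.D4.O2

end

-- merged: Cfsg.Agent.OddHalf.D4.O2.Prod
section

/-!
# ODD, D4, rows `Ω^±_2n(2)`: a product of two root elements in `N` has odd order
-/

set_option autoImplicit false
set_option linter.unusedSectionVars false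

namespace Cfsg.Agent.OddHalf.D4.O2

open QuadraticMap Cfsg.Agent.LieClassical.OrthCore Cfsg.Agent.LieClassical.OrthTrans
  Cfsg.Agent.ClassicalGeometry.OrthAutBasic Cfsg.Agent.ClassicalGeometry.OrthAutRoot
  Cfsg.Agent.ClassicalGeometry.OrthAutSylow Cfsg.Agent.OddHalf.D4.SigmaEnd

variable {F V : Type*} [Field F] [AddCommGroup V] [Module F V] {Q : QuadraticForm F V}

section

variable (h2 : Two F) {D N : Subgroup (V ≃ₗ[F] V)}

include h2

theorem ln_add {u w : V} (h : Ln Q u w) : Ln Q (u + w) w := by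
  refine h2.ln ?_ h.qw ?_ ?_ h.ne' ?_
  · rw [Q_add, h.qu, h.qw, h.perp]; simp
  · rw [polar_add_left, h.perp, h2.polar_self, add_zero]
  · intro e
    exact Ln.ne2 h (h2.eq_of_add e).symm
  · intro e
    exact h.ne (by simpa using e.symm)

theorem T_add_left {u w : V} (h : Ln Q u w) : T Q (u + w) w = T Q u w := by
  rw [h2.T_swap (ln_add h2 h).qu h.qw (ln_add h2 h).perp, h2.T_add_self h.qw h.perp', h2.T_swap h.qw h.qu h.perp']

theorem T_ln {u w : V} (h : Ln Q u w) (v : V) : T Q u w v = v + polar Q u v • w + polar Q w v • u := by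
  rw [h2.T_apply h.qu h.perp, h.qw, zero_mul, zero_smul, add_zero]

theorem rank_two {u1 u2 u3 u4 : V} (h12 : Ln Q u1 u2) (h34 : Ln Q u3 u4) (b13 : polar Q u1 u3 = 1)
    (b24 : polar Q u2 u4 = 1) (b14 : polar Q u1 u4 = 0) (b23 : polar Q u2 u3 = 0) :
    (T Q u1 u2 * T Q u3 u4) ^ 3 = 1 := by
  set e := T Q u1 u2 with he
  set f := T Q u3 u4 with hf
  have e2 : e * e = 1 := h2.T_sq
  have f2 : f * f = 1 := h2.T_sq
  have b31 : polar Q u3 u1 = 1 := by rw [polar_comm, b13]
  have b42 : polar Q u4 u2 = 1 := by rw [polar_comm, b24]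
  have b41 : polar Q u4 u1 = 0 := by rw [polar_comm, b14]
  have b32 : polar Q u3 u2 = 0 := by rw [polar_comm, b23]
  have h3 : e * f * e = T Q (u3 + u2) (u4 + u1) := by
    have h4 := T_conj (T_mem_O (Q := Q) u1 u2) u3 u4
    rw [h2.T_inv, T_ln h2 h12 u3, T_ln h2 h12 u4, b13, b23, b14, b24, one_smul, zero_smul, zero_smul, one_smul,
      add_zero, add_zero] at h4
    exact h4
  have h4 : f * e * f = T Q (u1 + u4) (u2 + u3) := by
    have h4 := T_conj (T_mem_O (Q := Q) u3 u4) u1 u2
    rw [h2.T_inv, T_ln h2 h34 u1, T_ln h2 h34 u2, b31, b41, b32, b42, one_smul, zero_smul, zero_smul, one_smul,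
      add_zero, add_zero] at h4
    exact h4
  have q32 : Q (u3 + u2) = 0 := by rw [Q_add, h34.qu, h12.qw, b32]; simp
  have q41 : Q (u4 + u1) = 0 := by rw [Q_add, h34.qw, h12.qu, b41]; simp
  have b : polar Q (u3 + u2) (u4 + u1) = 0 := by
    simp only [polar_add_left, polar_add_right, h34.perp, b31, b24, h12.perp']
    rw [zero_add, add_zero]
    exact h2.two
  have h5 : e * f * e = f * e * f := by
    rw [h3, h4, h2.T_swap q32 q41 b, add_comm u4 u1, add_comm u3 u2]
  calc (e * f) ^ 3 = (e * f * e) * (f * e * f) := by rw [pow_succ, pow_two]; group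
    _ = (f * e * f) * (f * e * f) := by rw [h5]
    _ = f * e * (f * f) * e * f := by group
    _ = f * (e * e) * f := by rw [f2]; group
    _ = 1 := by rw [e2, mul_one, f2]

theorem odd_of_cube {x : V ≃ₗ[F] V} (h : x ^ 3 = 1) : Odd (orderOf x) := by
  have h3 : orderOf x ∣ 3 := orderOf_dvd_of_pow_eq_one h
  exact Odd.of_dvd_nat (by decide) h3

/-- The form is zero on `⟨u1, u2⟩ × ⟨u3, u4⟩`. -/
theorem rank_zero (hQ : Nondeg Q) [FiniteDimensional F V] (oc : OC Q D N) (hak : ∀ w, AK Q w → w ≠ 1 → w ∉ N)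
    {u1 u2 u3 u4 : V} (h12 : Ln Q u1 u2) (h34 : Ln Q u3 u4) (b13 : polar Q u1 u3 = 0)
    (b24 : polar Q u2 u4 = 0) (b14 : polar Q u1 u4 = 0) (b23 : polar Q u2 u3 = 0) (hN : T Q u1 u2 * T Q u3 u4 ∈ N) :
    T Q u1 u2 * T Q u3 u4 = 1 := by
  -- a common vector
  have common : ∀ p v v', Ln Q p v → Ln Q p v' → polar Q v v' = 0 → T Q p v * T Q p v' ∈ N →
      T Q p v * T Q p v' = 1 := by
    intro p v v' h h' hb hN
    have hp : polar Q p (v + v') = 0 := by rw [polar_add_right, h.perp, h'.perp, add_zero]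
    rw [T_mul h.qu h.perp h'.perp] at hN ⊢
    by_cases h0 : v + v' = 0
    · rw [h0, T_zero_right]
    by_cases h1 : v + v' = p
    · rw [h1, h2.T_self]
    exact absurd hN (oc.sig _ _ (h2.ln h.qu (by rw [Q_add, h.qw, h'.qw, hb]; simp) hp h.ne h0 h1))
  have b31 : polar Q u3 u1 = 0 := by rw [polar_comm, b13]
  have b42 : polar Q u4 u2 = 0 := by rw [polar_comm, b24]
  have b41 : polar Q u4 u1 = 0 := by rw [polar_comm, b14]
  have b32 : polar Q u3 u2 = 0 := by rw [polar_comm, b23]
  -- `u` in the first line, `(u, v)` a basis of the second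
  have case1 : ∀ u v, Ln Q u v → T Q u v = T Q u3 u4 → polar Q u1 v = 0 → polar Q u2 v = 0 →
      (u = u1 ∨ u = u2 ∨ u = u1 + u2) → T Q u1 u2 * T Q u3 u4 = 1 := by
    intro u v huv hT hb1 hb2 hu
    rw [← hT] at hN ⊢
    rcases hu with rfl | rfl | rfl
    · exact common _ _ _ h12 huv hb2 hN
    · rw [h2.T_swap h12.qu h12.qw h12.perp] at hN ⊢
      exact common _ _ _ h12.symm huv hb1 hN
    · rw [← T_add_left h2 h12] at hN ⊢
      exact common _ _ _ (ln_add h2 h12) huv hb2 hN
  by_cases c3 : u3 ∈ Submodule.span F {u1, u2}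
  · apply case1 u3 u4 h34 rfl b14 b24
    exact (h2.mem_span_pair.1 c3).resolve_left h34.ne
  by_cases c4 : u4 ∈ Submodule.span F {u1, u2}
  · apply case1 u4 u3 h34.symm (h2.T_swap h34.qw h34.qu h34.perp') b13 b23
    exact (h2.mem_span_pair.1 c4).resolve_left h34.ne'
  by_cases c5 : u3 + u4 ∈ Submodule.span F {u1, u2}
  · apply case1 (u3 + u4) u4 (ln_add h2 h34) (T_add_left h2 h34) b14 b24
    exact (h2.mem_span_pair.1 c5).resolve_left (ln_add h2 h34).ne
  exfalso
  -- four independent vectors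
  have hli : LinearIndependent F ![u1, u2, u3, u4] := by
    rw [Fintype.linearIndependent_iff]
    intro c hc
    have hc' : c 0 • u1 + c 1 • u2 + c 2 • u3 + c 3 • u4 = 0 := by
      have h3 := hc
      simp only [Fin.sum_univ_four] at h3
      simpa using h3
    have hm : c 2 • u3 + c 3 • u4 ∈ Submodule.span F {u1, u2} := by
      have h3 : c 2 • u3 + c 3 • u4 = c 0 • u1 + c 1 • u2 := by
        have h4 : (c 0 • u1 + c 1 • u2) + (c 2 • u3 + c 3 • u4) = 0 := by rw [← hc']; abel
        exact (h2.eq_of_add h4).symm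
      rw [h3]
      exact Submodule.mem_span_pair.2 ⟨_, _, rfl⟩
    have h23 : c 2 = 0 ∧ c 3 = 0 := by
      rcases h2 (c 2) with h3 | h3 <;> rcases h2 (c 3) with h4 | h4
      · exact ⟨h3, h4⟩
      · exfalso; apply c4; simpa [h3, h4] using hm
      · exfalso; apply c3; simpa [h3, h4] using hm
      · exfalso; apply c5; simpa [h3, h4] using hm
    rw [h23.1, h23.2, zero_smul, zero_smul, add_zero, add_zero] at hc'
    have h01 := h12.coeff hc'
    intro i
    fin_cases i
    · exact h01.1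
    · exact h01.2
    · exact h23.1
    · exact h23.2
  set w := T Q u1 u2 * T Q u3 u4 with hw
  have hwx : ∀ x, w x = x + polar Q u3 x • u4 + polar Q u4 x • u3 + polar Q u1 x • u2 + polar Q u2 x • u1 := by
    intro x
    show T Q u1 u2 (T Q u3 u4 x) = _
    rw [T_ln h2 h34, T_ln h2 h12]
    simp only [polar_add_right, polar_smul_right, b14, b13, b24, b23, smul_eq_mul, mul_zero, add_zero]
  have fixu : ∀ x, polar Q u1 x = 0 → polar Q u2 x = 0 → polar Q u3 x = 0 → polar Q u4 x = 0 → w x = x := by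
    intro x x1 x2 x3 x4
    rw [hwx, x1, x2, x3, x4]; simp
  have hAK : AK Q w := by
    refine ⟨(O Q).mul_mem (T_mem_O _ _) (T_mem_O _ _), ?_, ?_, ?_⟩
    · have hcomm : T Q u1 u2 * T Q u3 u4 = T Q u3 u4 * T Q u1 u2 := by
        apply comm_of_fix (T_mem_O _ _)
        · exact T_fix b13 b23
        · exact T_fix b14 b24
      calc w * w = T Q u1 u2 * (T Q u3 u4 * T Q u1 u2) * T Q u3 u4 := by rw [hw]; group
        _ = T Q u1 u2 * (T Q u1 u2 * T Q u3 u4) * T Q u3 u4 := by rw [← hcomm]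
        _ = (T Q u1 u2 * T Q u1 u2) * (T Q u3 u4 * T Q u3 u4) := by group
        _ = 1 := by rw [h2.T_sq, h2.T_sq, one_mul]
    · intro x
      rw [hwx]
      simp only [polar_add_right, polar_smul_right, h2.polar_self, smul_eq_mul]
      rw [polar_comm Q x u1, polar_comm Q x u2, polar_comm Q x u3, polar_comm Q x u4]
      have h3 := h2.addF (polar Q u3 x * polar Q u4 x)
      have h4 := h2.addF (polar Q u1 x * polar Q u2 x)
      linear_combination h3 + h4
    · -- the four vectors are in `[V, w]`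
      have hsep : ∀ i : Fin 4, ∃ x, ∀ j : Fin 4, polar Q (![u1, u2, u3, u4] j) x = if j = i then 1 else 0 := by
        intro i
        have h3 : ![u1, u2, u3, u4] i ∉ Submodule.span F (![u1, u2, u3, u4] '' {j | j ≠ i}) :=
          hli.notMem_span_image (by simp)
        obtain ⟨x, hx1, hx2⟩ := exists_sep_sub hQ h3
        refine ⟨x, fun j => ?_⟩
        by_cases hj : j = i
        · rw [hj, if_pos rfl]; exact hx1
        · rw [if_neg hj]
          exact hx2 _ (Submodule.subset_span ⟨j, hj, rfl⟩)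
      have hmem : ∀ i, ![u1, u2, u3, u4] i ∈ DD w := by
        intro i
        fin_cases i
        · obtain ⟨x, hx⟩ := hsep 1
          refine (mem_D2 h2).2 ⟨x, ?_⟩
          have x1 : polar Q u1 x = 0 := hx 0
          have x2 : polar Q u2 x = 1 := hx 1
          have x3 : polar Q u3 x = 0 := hx 2
          have x4 : polar Q u4 x = 0 := hx 3
          rw [hwx, x1, x2, x3, x4, zero_smul, zero_smul, zero_smul, one_smul, add_zero, add_zero, add_zero,
            add_comm x u1, add_assoc, h2.add_self, add_zero]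
          rfl
        · obtain ⟨x, hx⟩ := hsep 0
          refine (mem_D2 h2).2 ⟨x, ?_⟩
          have x1 : polar Q u1 x = 1 := hx 0
          have x2 : polar Q u2 x = 0 := hx 1
          have x3 : polar Q u3 x = 0 := hx 2
          have x4 : polar Q u4 x = 0 := hx 3
          rw [hwx, x1, x2, x3, x4, zero_smul, zero_smul, zero_smul, one_smul, add_zero, add_zero, add_zero,
            add_comm x u2, add_assoc, h2.add_self, add_zero]
          rfl
        · obtain ⟨x, hx⟩ := hsep 3
          refine (mem_D2 h2).2 ⟨x, ?_⟩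
          have x1 : polar Q u1 x = 0 := hx 0
          have x2 : polar Q u2 x = 0 := hx 1
          have x3 : polar Q u3 x = 0 := hx 2
          have x4 : polar Q u4 x = 1 := hx 3
          rw [hwx, x1, x2, x3, x4, zero_smul, zero_smul, zero_smul, one_smul, add_zero, add_zero, add_zero,
            add_comm x u3, add_assoc, h2.add_self, add_zero]
          rfl
        · obtain ⟨x, hx⟩ := hsep 2
          refine (mem_D2 h2).2 ⟨x, ?_⟩
          have x1 : polar Q u1 x = 0 := hx 0
          have x2 : polar Q u2 x = 0 := hx 1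
          have x3 : polar Q u3 x = 1 := hx 2
          have x4 : polar Q u4 x = 0 := hx 3
          rw [hwx, x1, x2, x3, x4, zero_smul, zero_smul, zero_smul, one_smul, add_zero, add_zero, add_zero,
            add_comm x u4, add_assoc, h2.add_self, add_zero]
          rfl
      have h3 : Submodule.span F (Set.range ![u1, u2, u3, u4]) ≤ DD w := by
        rw [Submodule.span_le]
        rintro _ ⟨i, rfl⟩
        exact hmem i
      have h4 := Submodule.finrank_mono h3
      rw [finrank_span_eq_card hli, Fintype.card_fin] at h4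
      exact h4
  refine hak w hAK ?_ hN
  intro hw1
  have h3 := hAK.rk
  have h4 : DD w ≤ ⊥ := by
    intro u hu
    obtain ⟨x, rfl⟩ := (mem_D2 h2).1 hu
    rw [hw1]
    show x + x ∈ _
    rw [h2.add_self]; exact Submodule.zero_mem _
  have h5 := Submodule.finrank_mono h4
  rw [finrank_bot] at h5
  omega

/-- Rank one is impossible. -/
theorem rank_one (oc : OC Q D N) (hc2 : ∀ p q, PQ Q p q → T Q p q ∉ N)
    {u1 u2 u3 u4 : V} (h12 : Ln Q u1 u2) (h34 : Ln Q u3 u4) (b13 : polar Q u1 u3 = 0)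
    (b24 : polar Q u2 u4 = 1) (b14 : polar Q u1 u4 = 0) (b23 : polar Q u2 u3 = 0) :
    T Q u1 u2 * T Q u3 u4 ∉ N := by
  intro hN
  have b31 : polar Q u3 u1 = 0 := by rw [polar_comm, b13]
  by_cases h13 : u1 = u3
  · subst h13
    rw [T_mul h12.qu h12.perp h34.perp] at hN
    refine hc2 _ _ ⟨h12.qu, h12.ne, ?_, ?_⟩ hN
    · rw [polar_add_right, h12.perp, h34.perp, add_zero]
    · rw [Q_add, h12.qw, h34.qw, b24]; simp
  · have h3 : T Q u1 u2 * T Q u3 u4 * T Q u1 u2 = T Q u3 u4 * T Q u3 u1 := by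
      have h4 := T_conj (T_mem_O (Q := Q) u1 u2) u3 u4
      rw [h2.T_inv, T_ln h2 h12 u3, T_ln h2 h12 u4, b13, b23, b14, b24, zero_smul, zero_smul, one_smul,
        add_zero, add_zero, add_zero] at h4
      rw [h4, T_mul h34.qu h34.perp b31]
    have h4 := N.mul_mem hN hN
    have h5 : T Q u1 u2 * T Q u3 u4 * (T Q u1 u2 * T Q u3 u4) = T Q u3 u1 := by
      calc T Q u1 u2 * T Q u3 u4 * (T Q u1 u2 * T Q u3 u4) = (T Q u1 u2 * T Q u3 u4 * T Q u1 u2) * T Q u3 u4 := by
            group
        _ = T Q u3 u4 * T Q u3 u1 * T Q u3 u4 := by rw [h3]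
        _ = T Q u3 u1 * T Q u3 u4 * T Q u3 u4 := by rw [T_comm h34.qu h34.perp b31]
        _ = T Q u3 u1 * (T Q u3 u4 * T Q u3 u4) := by group
        _ = T Q u3 u1 := by rw [h2.T_sq, mul_one]
    rw [h5] at h4
    exact oc.sig _ _ (h2.ln h34.qu h12.qu b31 h34.ne h12.ne h13) h4

/-- **A product of two root elements in `N` has odd order.** -/
theorem odd_prod (hQ : Nondeg Q) [FiniteDimensional F V] (oc : OC Q D N) (hc2 : ∀ p q, PQ Q p q → T Q p q ∉ N)
    (hak : ∀ w, AK Q w → w ≠ 1 → w ∉ N) {u1 u2 u3 u4 : V} (h12 : Ln Q u1 u2) (h34 : Ln Q u3 u4)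
    (hN : T Q u1 u2 * T Q u3 u4 ∈ N) : Odd (orderOf (T Q u1 u2 * T Q u3 u4)) := by
  -- the case `b(u2, u4) = 1`
  have main : ∀ u1 u2 u3 u4, Ln Q u1 u2 → Ln Q u3 u4 → T Q u1 u2 * T Q u3 u4 ∈ N → polar Q u2 u4 = 1 →
      Odd (orderOf (T Q u1 u2 * T Q u3 u4)) := by
    intro u1 u2 u3 u4 h12 h34 hN b24
    have b42 : polar Q u4 u2 = 1 := by rw [polar_comm, b24]
    obtain ⟨v1, hv1, t1, b14⟩ : ∃ v1, Ln Q v1 u2 ∧ T Q v1 u2 = T Q u1 u2 ∧ polar Q v1 u4 = 0 := by
      rcases h2 (polar Q u1 u4) with h | h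
      · exact ⟨u1, h12, rfl, h⟩
      · exact ⟨u1 + u2, ln_add h2 h12, T_add_left h2 h12, by rw [polar_add_left, h, b24, h2.two]⟩
    obtain ⟨v3, hv3, t3, b23⟩ : ∃ v3, Ln Q v3 u4 ∧ T Q v3 u4 = T Q u3 u4 ∧ polar Q u2 v3 = 0 := by
      rcases h2 (polar Q u2 u3) with h | h
      · exact ⟨u3, h34, rfl, h⟩
      · exact ⟨u3 + u4, ln_add h2 h34, T_add_left h2 h34, by rw [polar_add_right, h, b24, h2.two]⟩
    rw [← t1, ← t3] at hN ⊢
    rcases h2 (polar Q v1 v3) with h | h
    · exact absurd hN (rank_one h2 oc hc2 hv1 hv3 h b24 b14 b23)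
    · exact odd_of_cube h2 (rank_two h2 hv1 hv3 h b24 b14 b23)
  have s12 : T Q u1 u2 = T Q u2 u1 := h2.T_swap h12.qu h12.qw h12.perp
  have s34 : T Q u3 u4 = T Q u4 u3 := h2.T_swap h34.qu h34.qw h34.perp
  rcases h2 (polar Q u2 u4) with b24 | b24
  swap
  · exact main _ _ _ _ h12 h34 hN b24
  rcases h2 (polar Q u1 u4) with b14 | b14
  swap
  · rw [s12] at hN ⊢
    exact main _ _ _ _ h12.symm h34 hN b14
  rcases h2 (polar Q u2 u3) with b23 | b23
  swap
  · rw [s34] at hN ⊢
    exact main _ _ _ _ h12 h34.symm hN b23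
  rcases h2 (polar Q u1 u3) with b13 | b13
  swap
  · rw [s12, s34] at hN ⊢
    exact main _ _ _ _ h12.symm h34.symm hN b13
  rw [rank_zero h2 hQ oc hak h12 h34 b13 b24 b14 b23 hN, orderOf_one]
  exact odd_one

end

end Cfsg.Agent.OddHalf.D4.O2

end

-- merged: Cfsg.Agent.OddHalf.D4.O2.Fix
section

/-!
# ODD, D4, rows `Ω^±_2n(2)`: no four-group of `O(V)` whose involutions centralise the same root elements
-/

set_option autoImplicit false
set_option linter.unusedSectionVars false

namespace Cfsg.Agent.OddHalf.D4.O2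

open QuadraticMap Cfsg.Agent.LieClassical.OrthCore Cfsg.Agent.LieClassical.OrthTrans
  Cfsg.Agent.ClassicalGeometry.OrthAutBasic Cfsg.Agent.ClassicalGeometry.OrthAutRoot
  Cfsg.Agent.ClassicalGeometry.OrthAutSylow

variable {F V : Type*} [Field F] [AddCommGroup V] [Module F V] {Q : QuadraticForm F V}

/-- A four-group `⟨a, b⟩` of isometries whose involutions centralise the same root elements. -/
structure Cst (Q : QuadraticForm F V) (a b : V ≃ₗ[F] V) : Prop where
  aO : a ∈ O Q
  bO : b ∈ O Q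
  aa : a * a = 1
  bb : b * b = 1
  ab : a * b = b * a
  a1 : a ≠ 1
  b1 : b ≠ 1
  ne : a ≠ b
  cst : ∀ y y', (y = a ∨ y = b ∨ y = a * b) → (y' = a ∨ y' = b ∨ y' = a * b) → ∀ u w, Ln Q u w →
    y * T Q u w = T Q u w * y → y' * T Q u w = T Q u w * y'

section

variable (h2 : Two F)

include h2

/-- A singular vector in `U` outside `B`. -/
theorem exists_sing_in [FiniteDimensional F V] (U B : Submodule F V)
    (h : Module.finrank F B + 3 ≤ Module.finrank F U) : ∃ r ∈ U, Q r = 0 ∧ r ∉ B := by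
  have := h2.finite
  let B' : Submodule F U := B.comap U.subtype
  obtain ⟨C, hC⟩ := B'.exists_isCompl
  have hd : Module.finrank F B' + Module.finrank F C = Module.finrank F U :=
    Submodule.finrank_add_eq_of_isCompl hC
  have hB' : Module.finrank F B' ≤ Module.finrank F B := by
    have h3 : Module.finrank F (B'.map U.subtype) = Module.finrank F B' := Submodule.finrank_map_subtype_eq _ _
    rw [← h3]
    apply Submodule.finrank_mono
    rintro _ ⟨x, hx, rfl⟩
    exact hx
  have h3 : Module.finrank F (C.map U.subtype) = Module.finrank F C := Submodule.finrank_map_subtype_eq _ _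
  obtain ⟨r, hr, hr0, hrQ⟩ := exists_sing_of_three_le (Q := Q) (C.map U.subtype) (by omega)
  obtain ⟨c, hc, rfl⟩ := hr
  refine ⟨c, c.2, hrQ, fun hB => hr0 ?_⟩
  have := hC.disjoint
  rw [Submodule.disjoint_def] at this
  have h4 : c = 0 := this c hB hc
  rw [h4]; rfl

theorem exists_in (U B : Submodule F V) [FiniteDimensional F V]
    (h : Module.finrank F B < Module.finrank F U) : ∃ r ∈ U, r ∉ B := by
  by_contra hn
  push Not at hn
  have := Submodule.finrank_mono (show U ≤ B from hn)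
  omega

/-- The fixed vectors of `y` orthogonal to `v`. -/
def UU (Q : QuadraticForm F V) (y : V ≃ₗ[F] V) (v : V) : Submodule F V :=
  LinearMap.ker (y.toLinearMap - LinearMap.id) ⊓ LinearMap.ker (polarBilin Q v)

omit h2 in
theorem mem_UU {y : V ≃ₗ[F] V} {v x : V} : x ∈ UU Q y v ↔ y x = x ∧ polar Q v x = 0 := by
  rw [UU, Submodule.mem_inf, LinearMap.mem_ker, LinearMap.mem_ker, LinearMap.sub_apply, LinearMap.id_apply,
    sub_eq_zero, polarBilin_apply_apply]
  rfl

theorem fix_of_perp (hQ : Nondeg Q) {y : V ≃ₗ[F] V} (hy : y ∈ O Q) (hyy : ∀ x, y (y x) = x) {x : V}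
    (h : ∀ z, polar Q (y z + z) x = 0) : y x = x := by
  apply h2.eq_of_add
  apply hQ
  intro z
  have h3 := h z
  rw [polar_add_left] at h3
  have h4 := polar_map hy z (y x)
  rw [hyy] at h4
  rw [polar_comm, polar_add_right, ← h4]
  exact h3

/-- Two singular lines through `v` consisting of fixed vectors. -/
theorem exists_lines (hQ : Nondeg Q) [FiniteDimensional F V] (hd : 8 ≤ Module.finrank F V) {y : V ≃ₗ[F] V}
    (hy : y ∈ O Q) (hyy : ∀ x, y (y x) = x) {v : V} (hv : Q v = 0) (hyv : y v = v) :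
    ∃ r1 r2, (Q r1 = 0 ∧ y r1 = r1 ∧ polar Q v r1 = 0) ∧ (Q r2 = 0 ∧ y r2 = r2 ∧ polar Q v r2 = 0) ∧
      r1 ∉ Submodule.span F {v} ∧ r2 ∉ Submodule.span F {v, r1} := by
  set U := UU Q y v with hU
  let W : Submodule F V := LinearMap.range (y.toLinearMap - LinearMap.id) ⊔ Submodule.span F {v}
  have hWmem : ∀ z, y z + z ∈ W := by
    intro z
    apply Submodule.mem_sup_left
    exact ⟨z, by rw [LinearMap.sub_apply, LinearMap.id_apply, h2.sub_eq]; rfl⟩
  have hvW : v ∈ W := Submodule.mem_sup_right (Submodule.mem_span_singleton_self v)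
  have hvU : v ∈ U := mem_UU.2 ⟨hyv, h2.polar_self v⟩
  have hWU : W ≤ U := by
    apply sup_le
    · rintro _ ⟨z, rfl⟩
      rw [LinearMap.sub_apply, LinearMap.id_apply, h2.sub_eq]
      refine mem_UU.2 ⟨?_, ?_⟩
      · show y (y z + z) = y z + z
        rw [map_add, hyy, add_comm]
      · show polar Q v (y z + z) = 0
        have h3 := polar_map hy v z
        rw [hyv] at h3
        rw [polar_add_right, h3]
        exact h2.addF _
    · rw [Submodule.span_le]
      rintro z rfl
      exact hvU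
  -- `W^⊥ ≤ U`
  let f : V →ₗ[F] Module.Dual F W :=
    { toFun := fun x => (polarBilin Q x).comp W.subtype
      map_add' := fun x x' => by
        ext s
        simp
      map_smul' := fun c x => by
        ext s
        simp }
  have hker : LinearMap.ker f ≤ U := by
    intro x hx
    have h3 : ∀ s ∈ W, polar Q s x = 0 := by
      intro s hs
      have := LinearMap.congr_fun (LinearMap.mem_ker.1 hx) ⟨s, hs⟩
      rw [polar_comm]
      simpa [f] using this
    exact mem_UU.2 ⟨fix_of_perp h2 hQ hy hyy fun z => h3 _ (hWmem z), h3 v hvW⟩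
  have h3 := LinearMap.finrank_range_add_finrank_ker f
  have h4 : Module.finrank F (LinearMap.range f) ≤ Module.finrank F W := by
    have := Submodule.finrank_le (LinearMap.range f)
    rwa [Subspace.dual_finrank_eq] at this
  have h5 := Submodule.finrank_mono hker
  have h6 := Submodule.finrank_mono hWU
  have hsv := finrank_span_singleton_le (F := F) v
  by_cases h7 : 5 ≤ Module.finrank F U
  · obtain ⟨r1, hr1, q1, n1⟩ := exists_sing_in (Q := Q) h2 U (Submodule.span F {v}) (by omega)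
    have hsp := finrank_span_pair_le (F := F) v r1
    obtain ⟨r2, hr2, q2, n2⟩ := exists_sing_in (Q := Q) h2 U (Submodule.span F {v, r1}) (by omega)
    have m1 := mem_UU.1 hr1
    have m2 := mem_UU.1 hr2
    exact ⟨r1, r2, ⟨q1, m1.1, m1.2⟩, ⟨q2, m2.1, m2.2⟩, n1, n2⟩
  · have hWU' : W = U := Submodule.eq_of_le_of_finrank_le hWU (by omega)
    have hiso : ∀ s ∈ U, ∀ t ∈ U, polar Q s t = 0 := by
      intro s hs t ht
      have hker' : LinearMap.ker f = U := Submodule.eq_of_le_of_finrank_le hker (by omega)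
      rw [← hker'] at hs
      have := LinearMap.congr_fun (LinearMap.mem_ker.1 hs) ⟨t, by rw [hWU']; exact ht⟩
      simpa [f] using this
    let q : U →ₗ[F] F :=
      { toFun := fun x => Q (x : V)
        map_add' := fun x x' => by
          show Q ((x : V) + (x' : V)) = _
          rw [Q_add, hiso _ x.2 _ x'.2, add_zero]
        map_smul' := fun c x => by
          show Q (c • (x : V)) = c • Q (x : V)
          rw [QuadraticMap.map_smul]
          rcases h2 c with h | h <;> rw [h] <;> simp }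
    have h8 := LinearMap.finrank_range_add_finrank_ker q
    have h9 : Module.finrank F (LinearMap.range q) ≤ 1 := by
      have := Submodule.finrank_le (LinearMap.range q)
      rwa [Module.finrank_self] at this
    let U0 : Submodule F V := (LinearMap.ker q).map U.subtype
    have h10 : Module.finrank F U0 = Module.finrank F (LinearMap.ker q) := Submodule.finrank_map_subtype_eq _ _
    have hU0 : ∀ x ∈ U0, Q x = 0 ∧ y x = x ∧ polar Q v x = 0 := by
      rintro _ ⟨x, hx, rfl⟩
      have m := mem_UU.1 x.2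
      exact ⟨hx, m.1, m.2⟩
    obtain ⟨r1, hr1, n1⟩ := exists_in h2 U0 (Submodule.span F {v}) (by omega)
    have hsp := finrank_span_pair_le (F := F) v r1
    obtain ⟨r2, hr2, n2⟩ := exists_in h2 U0 (Submodule.span F {v, r1}) (by omega)
    exact ⟨r1, r2, hU0 _ hr1, hU0 _ hr2, n1, n2⟩

/-- An isometry commuting with a root element preserves the line. -/
theorem line_of_comm (hQ : Nondeg Q) {y : V ≃ₗ[F] V} (hy : y ∈ O Q) {u w : V} (h : Ln Q u w)
    (hc : y * T Q u w = T Q u w * y) : y u = u ∨ y u = w ∨ y u = u + w := by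
  have h3 := T_conj hy u w
  rw [hc, mul_inv_cancel_right] at h3
  have h4 := D_T hQ (h.map hy)
  rw [← h3, D_T hQ h] at h4
  have h5 : y u ∈ L F u w := by rw [h4]; exact left_mem_L _ _
  exact (h2.mem_span_pair.1 h5).resolve_left (h.map hy).ne

theorem comm_of_fix2 {g : V ≃ₗ[F] V} (hg : g ∈ O Q) {u w : V} (hu : g u = u) (hw : g w = w) :
    g * T Q u w = T Q u w * g := by
  have := T_conj hg u w
  rw [hu, hw, mul_inv_eq_iff_eq_mul] at this
  exact this

variable {a b : V ≃ₗ[F] V}

omit h2 in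
theorem Cst.yO (h : Cst Q a b) {y : V ≃ₗ[F] V} (hy : y = a ∨ y = b ∨ y = a * b) : y ∈ O Q := by
  rcases hy with rfl | rfl | rfl
  · exact h.aO
  · exact h.bO
  · exact (O Q).mul_mem h.aO h.bO

omit h2 in
theorem Cst.yy (h : Cst Q a b) {y : V ≃ₗ[F] V} (hy : y = a ∨ y = b ∨ y = a * b) (x : V) : y (y x) = x := by
  have h3 : y * y = 1 := by
    rcases hy with rfl | rfl | rfl
    · exact h.aa
    · exact h.bb
    · calc a * b * (a * b) = a * (b * a) * b := by group
        _ = a * (a * b) * b := by rw [h.ab]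
        _ = (a * a) * (b * b) := by group
        _ = 1 := by rw [h.aa, h.bb, one_mul]
  exact congrArg (fun f : V ≃ₗ[F] V => f x) h3

/-- Singular fixed vectors agree. -/
theorem Cst.claim1 (h : Cst Q a b) (hQ : Nondeg Q) [FiniteDimensional F V] (hd : 8 ≤ Module.finrank F V)
    {y y' : V ≃ₗ[F] V} (hy : y = a ∨ y = b ∨ y = a * b) (hy' : y' = a ∨ y' = b ∨ y' = a * b) {v : V}
    (hv : Q v = 0) (hyv : y v = v) : y' v = v := by
  by_cases hv0 : v = 0
  · rw [hv0, map_zero]
  obtain ⟨r1, r2, ⟨q1, f1, p1⟩, ⟨q2, f2, p2⟩, n1, n2⟩ := exists_lines h2 hQ hd (h.yO hy) (h.yy hy) hv hyv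
  rw [h2.mem_span] at n1
  rw [h2.mem_span_pair] at n2
  push Not at n1 n2
  obtain ⟨a1, a2⟩ := n1
  obtain ⟨b1, b2, b3, b4⟩ := n2
  have l1 : Ln Q v r1 := h2.ln hv q1 p1 hv0 a1 a2
  have l2 : Ln Q v r2 := h2.ln hv q2 p2 hv0 b1 b2
  have i1 := line_of_comm h2 hQ (h.yO hy') l1 (h.cst y y' hy hy' v r1 l1 (comm_of_fix2 h2 (h.yO hy) hyv f1))
  have i2 := line_of_comm h2 hQ (h.yO hy') l2 (h.cst y y' hy hy' v r2 l2 (comm_of_fix2 h2 (h.yO hy) hyv f2))
  rcases i1 with i1 | i1 | i1
  · exact i1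
  · rcases i2 with i2 | i2 | i2
    · exact i2
    · exact absurd (i2.symm.trans i1) b3
    · exfalso
      apply b4
      have : v + r2 = r1 := i2.symm.trans i1
      rw [← this, ← add_assoc, h2.add_self, zero_add]
  · rcases i2 with i2 | i2 | i2
    · exact i2
    · exact absurd (i2.symm.trans i1) b4
    · exact absurd (add_left_cancel (i2.symm.trans i1)) b3

/-- Singular vectors `v ⊥ y v` are fixed. -/
theorem Cst.claim2 (h : Cst Q a b) (hQ : Nondeg Q) [FiniteDimensional F V] (hd : 8 ≤ Module.finrank F V)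
    {y : V ≃ₗ[F] V} (hy : y = a ∨ y = b ∨ y = a * b) {v : V} (hv : Q v = 0) (hp : polar Q v (y v) = 0) :
    y v = v := by
  by_contra hne
  have hv0 : v ≠ 0 := by
    rintro rfl
    exact hne (map_zero y)
  have hyO := h.yO hy
  have hqy : Q (y v) = 0 := by rw [mem_O.1 hyO, hv]
  have hy0 : y v ≠ 0 := fun e => hv0 ((LinearEquiv.map_eq_zero_iff y).1 e)
  have l : Ln Q v (y v) := h2.ln hv hqy hp hv0 hy0 hne
  have hyc : y * T Q v (y v) = T Q v (y v) * y := by
    have h3 := T_conj hyO v (y v)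
    rw [h.yy hy, h2.T_swap hqy hv l.perp', mul_inv_eq_iff_eq_mul] at h3
    exact h3
  obtain ⟨y', hy', hyy', hcomm⟩ : ∃ y', (y' = a ∨ y' = b ∨ y' = a * b) ∧ (y * y' = a ∨ y * y' = b ∨ y * y' = a * b) ∧
      y * y' = y' * y := by
    rcases hy with rfl | rfl | rfl
    · exact ⟨b, Or.inr (Or.inl rfl), Or.inr (Or.inr rfl), h.ab⟩
    · exact ⟨a, Or.inl rfl, Or.inr (Or.inr h.ab.symm), h.ab.symm⟩
    · refine ⟨a, Or.inl rfl, Or.inr (Or.inl ?_), ?_⟩
      · calc a * b * a = a * (b * a) := by group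
          _ = a * (a * b) := by rw [h.ab]
          _ = (a * a) * b := by group
          _ = b := by rw [h.aa, one_mul]
      · rw [mul_assoc, ← h.ab]
  rcases line_of_comm h2 hQ (h.yO hy') l (h.cst y y' hy hy' v (y v) l hyc) with h3 | h3 | h3
  · exact hne (Cst.claim1 h2 h hQ hd hy' hy hv h3)
  · have h4 : (y * y') v = v := by
      show y (y' v) = v
      rw [h3, h.yy hy]
    exact hne (Cst.claim1 h2 h hQ hd hyy' hy hv h4)
  · have h4 : y (y' v) = y' v := by
      rw [h3, map_add, h.yy hy, add_comm]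
    have h5 : y (y' v) = y' (y v) := congrArg (fun f : V ≃ₗ[F] V => f v) hcomm
    rw [h5] at h4
    exact hne (y'.injective h4)

/-- `y` is trivial on a hyperplane. -/
theorem Cst.claim3 (h : Cst Q a b) (hQ : Nondeg Q) [FiniteDimensional F V] (hd : 8 ≤ Module.finrank F V)
    {y : V ≃ₗ[F] V} (hy : y = a ∨ y = b ∨ y = a * b) :
    ∃ z : V, ∀ x, polar Q z x = 0 → y x = x := by
  have := h2.finite
  have hyO := h.yO hy
  -- the linear function `b(x, y x)`
  let lam : V →ₗ[F] F :=
    { toFun := fun x => polar Q x (y x)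
      map_add' := fun x x' => by
        rw [map_add, polar_add_left, polar_add_right, polar_add_right]
        have h3 := polar_map hyO x (y x')
        rw [h.yy hy] at h3
        rw [polar_comm Q x' (y x), h3]
        have h4 := h2.addF (polar Q x (y x'))
        linear_combination h4
      map_smul' := fun c x => by
        rw [map_smul, polar_smul_left, polar_smul_right]
        rcases h2 c with e | e <;> rw [e] <;> simp }
  have hinj : Function.Injective (polarBilin Q) := by
    rw [← LinearMap.ker_eq_bot, LinearMap.ker_eq_bot']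
    intro v hv
    apply hQ
    intro y
    have := LinearMap.congr_fun hv y
    simpa using this
  have hsurj : Function.Surjective (polarBilin Q) := by
    apply (LinearMap.injective_iff_surjective_of_finrank_eq_finrank _).1 hinj
    exact (Subspace.dual_finrank_eq).symm
  obtain ⟨z, hz⟩ := hsurj lam
  have hz' : ∀ x, polar Q z x = polar Q x (y x) := fun x => LinearMap.congr_fun hz x
  refine ⟨z, ?_⟩
  have sing : ∀ x, polar Q z x = 0 → Q x = 0 → y x = x := fun x hx hq =>
    Cst.claim2 h2 h hQ hd hy hq (by rw [← hz', hx])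
  have gen : ∀ x, polar Q z x = 0 → x ≠ z → y x = x := by
    intro x hx hxz
    rcases h2 (Q x) with hq | hq
    · exact sing x hx hq
    have hx0 : x ≠ 0 := by
      rintro rfl
      rw [QuadraticMap.map_zero] at hq
      exact zero_ne_one hq
    obtain ⟨x0, h3, h4⟩ := exists_sep hQ (x := x) (z := z) (fun c hc => by
      rcases h2.smul_cases ⟨c, hc⟩ with e | e
      · exact hx0 e
      · exact hxz e)
    obtain ⟨s, hs1, hs2⟩ : ∃ s, Q s = 0 ∧ polar Q z s = 0 ∧ polar Q x s = 1 := by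
      rcases h2 (Q x0) with hq0 | hq0
      · exact ⟨x0, hq0, h3, h4⟩
      obtain ⟨s, hs, hsn⟩ := exists_avoid (Q := Q) ![z, x, x0] (Submodule.span F (Set.range ![z, x, x0])) (by
        have := finrank_span_le (F := F) ![z, x, x0]
        omega)
      obtain ⟨s', hs1, hs2⟩ := exists_sep_sub hQ hsn
      have z1 : polar Q z s = 0 := hs 0
      have x1 : polar Q x s = 0 := hs 1
      have w1 : polar Q x0 s = 0 := hs 2
      have z2 : polar Q z s' = 0 := hs2 z (Submodule.subset_span ⟨0, rfl⟩)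
      have x2 : polar Q x s' = 0 := hs2 x (Submodule.subset_span ⟨1, rfl⟩)
      have w2 : polar Q x0 s' = 0 := hs2 x0 (Submodule.subset_span ⟨2, rfl⟩)
      obtain ⟨k, k1, k2, k3, k4⟩ : ∃ k, Q k = 1 ∧ polar Q z k = 0 ∧ polar Q x k = 0 ∧ polar Q x0 k = 0 := by
        rcases exists_nonsing hs1 with e | e | e
        · exact ⟨s, h2.eq_one e, z1, x1, w1⟩
        · exact ⟨s', h2.eq_one e, z2, x2, w2⟩
        · refine ⟨s + s', h2.eq_one e, ?_, ?_, ?_⟩
          · rw [polar_add_right, z1, z2, add_zero]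
          · rw [polar_add_right, x1, x2, add_zero]
          · rw [polar_add_right, w1, w2, add_zero]
      refine ⟨x0 + k, ?_, ?_, ?_⟩
      · rw [Q_add, hq0, k1, k4, add_zero, h2.two]
      · rw [polar_add_right, h3, k2, add_zero]
      · rw [polar_add_right, h4, k3, add_zero]
    have h5 := sing s hs2.1 hs1
    have h6 := sing (x + s) (by rw [polar_add_right, hx, hs2.1, add_zero]) (by
      rw [Q_add, hq, hs1, hs2.2, add_zero, h2.two])
    rw [map_add, h5] at h6
    exact add_right_cancel h6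
  intro x hx
  by_cases hxz : x = z
  · obtain ⟨x1, hx1, hn⟩ := exists_avoid (Q := Q) ![z] (Submodule.span F {z}) (by
      have := finrank_span_singleton_le (F := F) z
      omega)
    have hzx1 : polar Q z x1 = 0 := hx1 0
    rw [h2.mem_span] at hn
    push Not at hn
    have h3 := gen x1 hzx1 hn.2
    have h4 := gen (z + x1) (by rw [polar_add_right, h2.polar_self, hzx1, add_zero]) (by
      intro e
      exact hn.1 (by simpa using e))
    rw [map_add, h3] at h4
    rw [hxz]
    exact add_right_cancel h4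
  · exact gen x hx hxz

/-- `y` is a transvection. -/
theorem Cst.claim4 (h : Cst Q a b) (hQ : Nondeg Q) [FiniteDimensional F V] (hd : 8 ≤ Module.finrank F V)
    {y : V ≃ₗ[F] V} (hy : y = a ∨ y = b ∨ y = a * b) (hy1 : y ≠ 1) :
    ∃ z : V, z ≠ 0 ∧ ∀ x, y x = x + polar Q z x • z := by
  obtain ⟨z, hz⟩ := Cst.claim3 h2 h hQ hd hy
  have hyO := h.yO hy
  have h3 : ∀ x, y x = x ∨ y x = x + z := by
    intro x
    have h4 : y x + x ∈ Submodule.span F {z} := by
      by_contra hn
      obtain ⟨t, ht1, ht2⟩ := exists_sep_sub hQ hn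
      have hzt : polar Q z t = 0 := ht2 z (Submodule.mem_span_singleton_self z)
      have h5 := polar_map hyO x t
      rw [hz t hzt] at h5
      rw [polar_add_left, h5, h2.addF] at ht1
      exact zero_ne_one ht1
    rcases h2.mem_span.1 h4 with h5 | h5
    · left; exact h2.eq_of_add h5
    · right
      rw [← h5, add_comm (y x) x, ← add_assoc, h2.add_self, zero_add]
  obtain ⟨x0, hx0⟩ : ∃ x, y x ≠ x := by
    by_contra hn
    push Not at hn
    exact hy1 (LinearEquiv.ext hn)
  have h4 := (h3 x0).resolve_left hx0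
  have h5 : polar Q z x0 = 1 := h2.eq_one fun e => hx0 (hz x0 e)
  have hz0 : z ≠ 0 := by
    rintro rfl
    rw [polar_zero_left] at h5
    exact zero_ne_one h5
  refine ⟨z, hz0, fun x => ?_⟩
  rcases h2 (polar Q z x) with h6 | h6
  · rw [h6, zero_smul, add_zero]
    exact hz x h6
  · have h7 := hz (x + x0) (by rw [polar_add_right, h6, h5, h2.two])
    rw [map_add, h4] at h7
    rw [h6, one_smul]
    have h8 : y x + (x0 + z) + z + x0 = x + x0 + z + x0 := by rw [h7]
    have e1 : y x + (x0 + z) + z + x0 = y x + (x0 + x0) + (z + z) := by abel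
    have e2 : x + x0 + z + x0 = x + z + (x0 + x0) := by abel
    rw [e1, e2, h2.add_self, h2.add_self, add_zero, add_zero, add_zero] at h8
    exact h8

/-- **No such four-group.** -/
theorem Cst.false (h : Cst Q a b) (hQ : Nondeg Q) (hd : 8 ≤ Module.finrank F V) : False := by
  have hfd : FiniteDimensional F V := Module.finite_of_finrank_pos (by omega)
  have hab1 : a * b ≠ 1 := by
    intro e
    apply h.ne
    calc a = a * (b * b) := by rw [h.bb, mul_one]
      _ = (a * b) * b := by group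
      _ = b := by rw [e, one_mul]
  obtain ⟨za, hza0, hza⟩ := Cst.claim4 h2 h hQ hd (Or.inl rfl) h.a1
  obtain ⟨zb, hzb0, hzb⟩ := Cst.claim4 h2 h hQ hd (Or.inr (Or.inl rfl)) h.b1
  obtain ⟨zc, hzc0, hzc⟩ := Cst.claim4 h2 h hQ hd (Or.inr (Or.inr rfl)) hab1
  by_cases hzz : za = zb
  · apply h.ne
    ext x
    rw [hza, hzb, hzz]
  · have hn1 : ∀ c : F, za ≠ c • zb := fun c hc => by
      rcases h2.smul_cases ⟨c, hc⟩ with e | e
      · exact hza0 e
      · exact hzz e
    have hn2 : ∀ c : F, zb ≠ c • za := fun c hc => by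
      rcases h2.smul_cases ⟨c, hc⟩ with e | e
      · exact hzb0 e
      · exact hzz e.symm
    obtain ⟨x, hx1, hx2⟩ := exists_sep hQ hn1
    obtain ⟨x', hx1', hx2'⟩ := exists_sep hQ hn2
    -- `b x = x`, `a x = x + za`
    have e1 : (a * b) x = x + za := by
      show a (b x) = _
      rw [hzb, hx1, zero_smul, add_zero, hza, hx2, one_smul]
    have e2 : (a * b) x' = x' + zb := by
      rw [h.ab]
      show b (a x') = _
      rw [hza, hx1', zero_smul, add_zero, hzb, hx2', one_smul]
    rw [hzc] at e1 e2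
    have f1 : za = zc := by
      have h3 := add_left_cancel e1
      rcases h2 (polar Q zc x) with h4 | h4
      · rw [h4, zero_smul] at h3
        exact absurd h3.symm hza0
      · rw [h4, one_smul] at h3
        exact h3.symm
    have f2 : zb = zc := by
      have h3 := add_left_cancel e2
      rcases h2 (polar Q zc x') with h4 | h4
      · rw [h4, zero_smul] at h3
        exact absurd h3.symm hzb0
      · rw [h4, one_smul] at h3
        exact h3.symm
    exact hzz (f1.trans f2.symm)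

end

end Cfsg.Agent.OddHalf.D4.O2

end

-- merged: Cfsg.Agent.OddHalf.D4.O2.Core
section

/-!
# ODD, D4, rows `Ω^±_2n(2)`: `O(C(y)) = 1` for involutions `y` of `O(V)`
-/

set_option autoImplicit false
set_option linter.unusedSectionVars false

namespace Cfsg.Agent.OddHalf.D4.O2

open QuadraticMap Cfsg.Agent.LieClassical.OrthCore Cfsg.Agent.LieClassical.OrthTrans
  Cfsg.Agent.ClassicalGeometry.OrthAutBasic Cfsg.Agent.ClassicalGeometry.OrthAutRoot
  Cfsg.Agent.ClassicalGeometry.OrthAutSylow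

variable {F V : Type*} [Field F] [AddCommGroup V] [Module F V] {Q : QuadraticForm F V}

theorem one_of_odd {G : Type*} [Group G] {X : Subgroup G} (hodd : Odd (Nat.card ↥X)) {x : G} (hx : x ∈ X) {k : ℕ}
    (h : x ^ 2 ^ k = 1) : x = 1 := by
  have h1 : orderOf x ∣ Nat.card ↥X := by
    have := orderOf_dvd_natCard (⟨x, hx⟩ : ↥X)
    rwa [Subgroup.orderOf_mk] at this
  have h2 : Odd (orderOf x) := Odd.of_dvd_nat hodd h1
  have h3 : orderOf x ∣ 2 ^ k := orderOf_dvd_of_pow_eq_one h
  rcases (Nat.dvd_prime_pow Nat.prime_two).1 h3 with ⟨m, _, hm⟩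
  rw [← orderOf_eq_one_iff, hm]
  rcases Nat.eq_zero_or_pos m with h7 | h7
  · rw [h7, pow_zero]
  · exfalso
    rw [hm] at h2
    exact (Nat.not_odd_iff_even.2 ((even_two).pow_of_ne_zero (by omega))) h2

theorem one_of_sq {G : Type*} [Group G] {X : Subgroup G} (hodd : Odd (Nat.card ↥X)) {x : G} (hx : x ∈ X)
    (h : x * x = 1) : x = 1 := one_of_odd hodd hx (k := 1) (by rw [pow_one, pow_two, h])

section

variable (h2 : Two F)

include h2

/-- An element of odd order with `g w ∈ {w, w + u}`, `g u = u` fixes `w`. -/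
theorem fix_of_odd_order {X : Subgroup (V ≃ₗ[F] V)} (hodd : Odd (Nat.card ↥X)) {g : V ≃ₗ[F] V} (hg : g ∈ X)
    {u w : V} (hu : g u = u) (hw : g w = w ∨ g w = w + u) : g w = w := by
  rcases hw with h | h
  · exact h
  -- `g²` fixes `w`, `g ∈ ⟨g²⟩`
  have h1 : orderOf g ∣ Nat.card ↥X := by
    have := orderOf_dvd_natCard (⟨g, hg⟩ : ↥X)
    rwa [Subgroup.orderOf_mk] at this
  obtain ⟨k, hk⟩ : Odd (orderOf g) := Odd.of_dvd_nat hodd h1
  have hsq : (g * g) w = w := by
    show g (g w) = w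
    rw [h, map_add, h, hu, add_assoc, h2.add_self, add_zero]
  have hpow : ∀ m : ℕ, ((g * g) ^ m) w = w := by
    intro m
    induction m with
    | zero => rfl
    | succ m ih =>
      rw [pow_succ]
      show ((g * g) ^ m) ((g * g) w) = w
      rw [hsq, ih]
  have h3 : g = (g * g) ^ (k + 1) := by
    rw [← pow_two, ← pow_mul]
    have h2 : 2 * (k + 1) = orderOf g + 1 := by omega
    rw [h2, pow_succ, pow_orderOf_eq_one, one_mul]
  rw [h3]
  exact hpow _

/-- If `g` of odd order is trivial on `S` and `(g - 1) V ≤ S` then `g = 1`. -/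
theorem one_of_triv {X : Subgroup (V ≃ₗ[F] V)} (hodd : Odd (Nat.card ↥X)) {g : V ≃ₗ[F] V} (hg : g ∈ X)
    (h : ∀ x, g (g x + x) = g x + x) : g = 1 := by
  apply one_of_sq hodd hg
  ext x
  show g (g x) = x
  have h3 := h x
  rw [map_add, add_comm (g x) x] at h3
  exact add_right_cancel h3

theorem span_perp (hQ : Nondeg Q) [FiniteDimensional F V] {S : Submodule F V} {z : V}
    (h : ∀ x, (∀ s ∈ S, polar Q s x = 0) → polar Q z x = 0) : z ∈ S := by
  by_contra hn
  obtain ⟨t, ht1, ht2⟩ := exists_sep_sub hQ hn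
  have := h t ht2
  rw [ht1] at this
  exact one_ne_zero this

/-- **`O(C(y)) = 1`.** -/
theorem core_trivial (hQ : Nondeg Q) (hd : 8 ≤ Module.finrank F V) {y : V ≃ₗ[F] V} (hyO : y ∈ O Q)
    (hyy : y * y = 1) (hy1 : y ≠ 1) {X : Subgroup (V ≃ₗ[F] V)} [Finite ↥X] (hXE : X ≤ E Q)
    (hXy : ∀ x ∈ X, x * y = y * x)
    (hXn : ∀ g ∈ E Q, g * y = y * g → ∀ x ∈ X, g * x * g⁻¹ ∈ X) (hodd : Odd (Nat.card ↥X)) : X = ⊥ := by
  have hF := h2.finite
  have hfd : FiniteDimensional F V := Module.finite_of_finrank_pos (by omega)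
  have hyx : ∀ x, y (y x) = x := fun x => congrArg (fun f : V ≃ₗ[F] V => f x) hyy
  have hgy : ∀ g ∈ X, ∀ x, g (y x) = y (g x) := fun g hg x => congrArg (fun f : V ≃ₗ[F] V => f x) (hXy g hg)
  have hgO : ∀ g ∈ X, g ∈ O Q := fun g hg => E_le_O (hXE hg)
  have hTc : ∀ u w, y u = u → y w = w → T Q u w * y = y * T Q u w := fun u w hu hw => (comm_of_fix hyO hu hw).symm
  -- vectors `y x + x`
  have dfix : ∀ x, y (y x + x) = y x + x := fun x => by rw [map_add, hyx, add_comm]
  have dperp : ∀ x v, y v = v → polar Q (y x + x) v = 0 := by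
    intro x v hv
    have h3 := polar_map hyO x v
    rw [hv] at h3
    rw [polar_add_left, h3]
    exact h2.addF _
  have hmemD : ∀ z, (∀ v, y v = v → polar Q z v = 0) → ∃ x, y x + x = z := by
    intro z hz
    have h3 : z ∈ LinearMap.range (y.toLinearMap - LinearMap.id) := by
      apply span_perp h2 hQ
      intro x hx
      apply hz
      apply fix_of_perp h2 hQ hyO hyx
      intro t
      apply hx
      exact ⟨t, by rw [LinearMap.sub_apply, LinearMap.id_apply, h2.sub_eq]; rfl⟩
    obtain ⟨x, hx⟩ := h3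
    refine ⟨x, ?_⟩
    rw [← hx, LinearMap.sub_apply, LinearMap.id_apply, h2.sub_eq]
    rfl
  rw [eq_bot_iff]
  intro g hg
  rw [Subgroup.mem_bot]
  by_cases hA : ∃ x, y x + x ≠ 0 ∧ Q (y x + x) = 0
  · -- a singular vector in `[V, y]`
    obtain ⟨x0, hu0, hqu⟩ := hA
    set u := y x0 + x0 with hu
    have hyu : y u = u := dfix x0
    have hgu0 : g u ≠ 0 := fun e => hu0 ((LinearEquiv.map_eq_zero_iff g).1 e)
    have hqgu : Q (g u) = 0 := by rw [mem_O.1 (hgO g hg), hqu]
    have hgud : g u = y (g x0) + g x0 := by rw [hu, map_add, hgy g hg]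
    have hygu : y (g u) = g u := by rw [hgud]; exact dfix _
    have guv : ∀ v, y v = v → polar Q (g u) v = 0 := by
      intro v hv
      rw [hgud]; exact dperp _ v hv
    have key : ∀ w, y w = w → T Q (g u) (g w) = T Q u w := by
      intro w hw
      have hygw : y (g w) = g w := by rw [← hgy g hg, hw]
      have huw : polar Q u w = 0 := dperp x0 w hw
      have h3 := X.mul_mem hg (hXn (T Q u w) (T_mem_E u w) (hTc u w hyu hw) _ (X.inv_mem hg))
      have h4 : g * (T Q u w * g⁻¹ * (T Q u w)⁻¹) = T Q (g u) (g w) * T Q u w := by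
        rw [← T_conj (hgO g hg)]
        calc g * (T Q u w * g⁻¹ * (T Q u w)⁻¹) = g * T Q u w * g⁻¹ * (T Q u w)⁻¹ := by group
          _ = g * T Q u w * g⁻¹ * T Q u w := by rw [h2.T_inv]
      rw [h4] at h3
      -- `h⁴ = 1`
      set u' := g u with hu'
      set w' := g w with hw'
      have b1 : polar Q u u' = 0 := by rw [polar_comm]; exact guv u hyu
      have b2 : polar Q w u' = 0 := by rw [polar_comm]; exact guv w hw
      have b3 : polar Q u w' = 0 := dperp x0 w' hygw
      have b4 : polar Q u' w' = 0 := guv w' hygw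
      have c1 : T Q u w u' = u' := T_fix b1 b2
      have c2 : T Q u w w' = w' + polar Q w w' • u := h2.T_perp hqu huw b3
      have h5 := T_conj (T_mem_O (Q := Q) u w) u' w'
      rw [c1, c2, h2.T_inv] at h5
      have b5 : polar Q u' (w' + polar Q w w' • u) = 0 := by
        rw [polar_add_right, b4, polar_smul_right, polar_comm Q u' u, b1]; simp
      have h6 : (T Q u' w' * T Q u w) * (T Q u' w' * T Q u w) = T Q u' (polar Q w w' • u) := by
        calc (T Q u' w' * T Q u w) * (T Q u' w' * T Q u w) = T Q u' w' * (T Q u w * T Q u' w' * T Q u w) := by group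
          _ = T Q u' w' * T Q u' (w' + polar Q w w' • u) := by rw [h5]
          _ = T Q u' (w' + (w' + polar Q w w' • u)) := T_mul hqgu b4 b5
          _ = _ := by rw [← add_assoc, h2.add_self, zero_add]
      have h7 : (T Q u' w' * T Q u w) ^ 2 ^ 2 = 1 := by
        have e : (T Q u' w' * T Q u w) ^ 2 ^ 2 = ((T Q u' w' * T Q u w) * (T Q u' w' * T Q u w)) *
            ((T Q u' w' * T Q u w) * (T Q u' w' * T Q u w)) := by
          rw [show (2 : ℕ) ^ 2 = 2 * 2 from rfl, pow_mul, pow_two, pow_two]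
        rw [e, h6, h2.T_sq]
      have h8 := one_of_odd hodd h3 h7
      rw [← h2.T_inv (Q := Q) (u := u) (w := w)]
      exact eq_inv_of_mul_eq_one_left h8
    -- `g u = u`
    have gu : g u = u := by
      by_contra hne
      have hn : ∀ c : F, g u ≠ c • u := fun c hc => by
        rcases h2.smul_cases ⟨c, hc⟩ with e | e
        · exact hgu0 e
        · exact hne e
      obtain ⟨x, hx1, hx2⟩ := exists_sep hQ hn
      have hall : ∀ w, y w = w → w ∈ Submodule.span F {u, g u} := by
        intro w hw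
        have hw1 : y (g⁻¹ w) = g⁻¹ w := by
          apply g.injective
          rw [hgy g hg]
          have e : g (g⁻¹ w) = w := LinearEquiv.apply_symm_apply g w
          rw [e, hw]
        have e : g (g⁻¹ w) = w := LinearEquiv.apply_symm_apply g w
        have h3 := key (g⁻¹ w) hw1
        rw [e] at h3
        have h4 : T Q (g u) w x = T Q u (g⁻¹ w) x := by rw [h3]
        rw [h2.T_apply hqgu (guv w hw), h2.T_perp hqu (dperp x0 _ hw1) hx1, hx2, one_smul, mul_one, add_assoc,
          add_assoc] at h4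
        have h5 := add_left_cancel h4
        have h6 : w = polar Q (g⁻¹ w) x • u + (polar Q w x • g u + Q w • g u) := by
          rw [← h5, add_assoc, h2.add_self, add_zero]
        rw [h6, Submodule.mem_span_pair]
        exact ⟨polar Q (g⁻¹ w) x, polar Q w x + Q w, by module⟩
      -- dimension
      obtain ⟨s, hs, hsn⟩ : ∃ s, (y s = s) ∧ s ∉ Submodule.span F {u, g u} := by
        have hle : ∀ s, s ∈ LinearMap.range (y.toLinearMap - LinearMap.id) → s ∈ Submodule.span F {u, g u} := by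
          rintro _ ⟨z, rfl⟩
          apply hall
          rw [LinearMap.sub_apply, LinearMap.id_apply, h2.sub_eq]
          exact dfix z
        have h5 := LinearMap.finrank_range_add_finrank_ker (y.toLinearMap - LinearMap.id)
        have h6 := Submodule.finrank_mono (show LinearMap.range (y.toLinearMap - LinearMap.id) ≤ _ from hle)
        have h7 := finrank_span_pair_le (F := F) u (g u)
        obtain ⟨s, hs, hsn⟩ := exists_in h2 (LinearMap.ker (y.toLinearMap - LinearMap.id))
          (Submodule.span F {u, g u}) (by omega)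
        refine ⟨s, ?_, hsn⟩
        rw [LinearMap.mem_ker, LinearMap.sub_apply, LinearMap.id_apply, sub_eq_zero] at hs
        exact hs
      exact hsn (hall s hs)
    have gV : ∀ w, y w = w → g w = w := by
      intro w hw
      apply fix_of_odd_order h2 hodd hg gu
      have h3 := key w hw
      rw [gu] at h3
      have hygw : y (g w) = g w := by rw [← hgy g hg, hw]
      obtain ⟨c, hc⟩ := (T_eq_T_iff hQ hqu hu0 (dperp x0 w hw) (dperp x0 _ hygw)).1 h3.symm
      rcases h2 c with e | e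
      · left; rw [hc, e, zero_smul, add_zero]
      · right; rw [hc, e, one_smul]
    apply one_of_triv h2 hodd hg
    intro x
    apply gV
    obtain ⟨t, ht⟩ := hmemD (g x + x) (by
      intro v hv
      have h3 := polar_map (hgO g hg) x v
      rw [gV v hv] at h3
      rw [polar_add_left, h3]
      exact h2.addF _)
    rw [← ht]
    exact dfix t
  · -- `y` is a transvection
    push Not at hA
    obtain ⟨x0, hx0⟩ : ∃ x, y x ≠ x := by
      by_contra hn
      push Not at hn
      exact hy1 (LinearEquiv.ext hn)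
    set q := y x0 + x0 with hqdef
    have hq0 : q ≠ 0 := fun e => hx0 (h2.eq_of_add e)
    have hqq : Q q = 1 := h2.eq_one (hA x0 hq0)
    have hD : ∀ x, y x + x = 0 ∨ y x + x = q := by
      intro x
      by_contra hcon
      push Not at hcon
      have h3 : y (x + x0) + (x + x0) = (y x + x) + q := by rw [map_add, hqdef]; abel
      have h4 : (y x + x) + q ≠ 0 := fun e => hcon.2 (h2.eq_of_add e)
      have h5 := hA (x + x0) (by rw [h3]; exact h4)
      apply h5
      rw [h3, Q_add, hqq, h2.eq_one (hA x hcon.1), dperp x q (dfix x0), add_zero, h2.two]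
    have hyq : y q = q := dfix x0
    have hfix : ∀ v, polar Q q v = 0 → y v = v := by
      intro v hv
      apply fix_of_perp h2 hQ hyO hyx
      intro z
      rcases hD z with e | e
      · rw [e, polar_zero_left]
      · rw [e, hv]
    have hgq : ∀ g ∈ X, g q = q := by
      intro g hg
      have h3 : g q = y (g x0) + g x0 := by rw [hqdef, map_add, hgy g hg]
      rcases hD (g x0) with e | e
      · rw [e] at h3
        exact absurd ((LinearEquiv.map_eq_zero_iff g).1 h3) hq0
      · rw [h3, e]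
    clear_value q
    -- stabilisers of singular points
    have hstab : ∀ u, Q u = 0 → u ≠ 0 → polar Q q u = 0 → ∀ g ∈ X, g u = u → g = 1 := by
      intro u hqu hu0 hqu' g hg hgu
      have hgw : ∀ w, polar Q u w = 0 → polar Q q w = 0 → g w = w := by
        intro w huw hqw
        apply fix_of_odd_order h2 hodd hg hgu
        have h3 := X.mul_mem hg (hXn (T Q u w) (T_mem_E u w) (hTc u w (hfix u hqu') (hfix w hqw)) _ (X.inv_mem hg))
        have hugw : polar Q u (g w) = 0 := by
          have := polar_map (hgO g hg) u w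
          rw [hgu] at this
          rw [this, huw]
        have h4 : g * (T Q u w * g⁻¹ * (T Q u w)⁻¹) = T Q u (g w + w) := by
          rw [← T_mul hqu hugw huw]
          have h5 := T_conj (hgO g hg) u w
          rw [hgu] at h5
          rw [← h5, h2.T_inv]
          group
        rw [h4] at h3
        have h5 := one_of_sq hodd h3 h2.T_sq
        rw [← T_zero_right (Q := Q) u] at h5
        obtain ⟨c, hc⟩ := (T_eq_T_iff hQ hqu hu0 (polar_zero_right _ _) (by
          rw [polar_add_right, hugw, huw, add_zero])).1 h5.symm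
        rw [zero_add] at hc
        rcases h2 c with e | e
        · left
          rw [e, zero_smul] at hc
          exact h2.eq_of_add hc
        · right
          rw [e, one_smul] at hc
          rw [← hc, add_comm (g w) w, ← add_assoc, h2.add_self, zero_add]
      apply one_of_triv h2 hodd hg
      intro x
      have h3 : g x + x ∈ Submodule.span F {u, q} := by
        apply span_perp h2 hQ
        intro v hv
        have huv : polar Q u v = 0 := hv u (Submodule.subset_span (by simp))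
        have hqv : polar Q q v = 0 := hv q (Submodule.subset_span (by simp))
        have h3 := polar_map (hgO g hg) x v
        rw [hgw v huv hqv] at h3
        rw [polar_add_left, h3]
        exact h2.addF _
      rcases h2.mem_span_pair.1 h3 with e | e | e | e
      · rw [e, map_zero]
      · rw [e, hgu]
      · rw [e, hgq g hg]
      · rw [e, map_add, hgu, hgq g hg]
    -- three commuting involutions inverting `X`
    obtain ⟨u, hqu, hu1, hun⟩ := exists_sing_avoid (Q := Q) ![q] (Submodule.span F {q}) (by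
      have := finrank_span_singleton_le (F := F) q
      omega)
    have hqu1 : polar Q q u = 0 := hu1 0
    have huq : polar Q u q = 0 := by rw [polar_comm, hqu1]
    have hu0 : u ≠ 0 := fun e => hun (by rw [e]; exact Submodule.zero_mem _)
    obtain ⟨e, hqe, he1, hen⟩ := exists_sing_avoid (Q := Q) ![u, q] (Submodule.span F {u, q}) (by
      have := finrank_span_pair_le (F := F) u q
      omega)
    have hue : polar Q u e = 0 := he1 0
    have hqe1 : polar Q q e = 0 := he1 1
    obtain ⟨f0, hf1, hf2⟩ := exists_sep_sub hQ hen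
    have huf0 : polar Q u f0 = 0 := hf2 u (Submodule.subset_span (by simp))
    have hqf0 : polar Q q f0 = 0 := hf2 q (Submodule.subset_span (by simp))
    obtain ⟨c, hf3, hf4⟩ := h2.sing_of hqe hf1
    set f := f0 + c • e with hf
    have huf : polar Q u f = 0 := by rw [hf, polar_add_right, polar_smul_right, huf0, hue]; simp
    have hqf : polar Q q f = 0 := by rw [hf, polar_add_right, polar_smul_right, hqf0, hqe1]; simp
    have P1 : PQ Q u (e + f) := ⟨hqu, hu0, by rw [polar_add_right, hue, huf, add_zero], by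
      rw [Q_add, hqe, hf3, hf4]; simp⟩
    have P2 : PQ Q u (e + q) := ⟨hqu, hu0, by rw [polar_add_right, hue, huq, add_zero], by
      rw [Q_add, hqe, hqq, polar_comm, hqe1]; simp⟩
    have P3 : PQ Q u (e + f + (e + q)) := ⟨hqu, hu0, by rw [polar_add_right, P1.pq, P2.pq, add_zero], by
      rw [Q_add, P1.qq, P2.qq, polar_add_left, polar_add_right, polar_add_right, h2.polar_self, polar_comm Q e q,
        hqe1, polar_comm Q f e, hf4, polar_comm Q f q, hqf, h2.two]
      simp⟩
    have q1 : polar Q q (e + f) = 0 := by rw [polar_add_right, hqe1, hqf, add_zero]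
    have q2 : polar Q q (e + q) = 0 := by rw [polar_add_right, hqe1, h2.polar_self, add_zero]
    have q3 : polar Q q (e + f + (e + q)) = 0 := by rw [polar_add_right, q1, q2, add_zero]
    have inv : ∀ w, PQ Q u w → polar Q q w = 0 → ∀ g ∈ X, T Q u w * g * (T Q u w)⁻¹ = g⁻¹ := by
      intro w hw hqw g hg
      have hTy := hTc u w (hfix u hqu1) (hfix w hqw)
      let φ : ↥X →* ↥X :=
        { toFun := fun x => ⟨T Q u w * x * (T Q u w)⁻¹, hXn _ (T_mem_E _ _) hTy x x.2⟩
          map_one' := Subtype.ext (by simp)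
          map_mul' := fun a b => Subtype.ext (by simp) }
      have h3 : MonoidHom.FixedPointFree φ := by
        intro x hx
        have h4 : T Q u w * (x : V ≃ₗ[F] V) * (T Q u w)⁻¹ = x := congrArg Subtype.val hx
        have h5 : (x : V ≃ₗ[F] V) * T Q u w = T Q u w * x := by
          rw [mul_inv_eq_iff_eq_mul] at h4
          exact h4.symm
        exact Subtype.ext (hstab u hqu hu0 hqu1 x x.2 (PQ.fix_p h2 hQ hw (hgO x x.2) h5))
      have h4 : Function.Involutive φ := by
        intro x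
        apply Subtype.ext
        show T Q u w * (T Q u w * x * (T Q u w)⁻¹) * (T Q u w)⁻¹ = x
        calc T Q u w * (T Q u w * x * (T Q u w)⁻¹) * (T Q u w)⁻¹ =
            (T Q u w * T Q u w) * x * (T Q u w * T Q u w)⁻¹ := by group
          _ = x := by rw [h2.T_sq]; simp
      exact congrArg Subtype.val (congrFun (h3.coe_eq_inv_of_involutive h4) ⟨g, hg⟩)
    have i1 := inv _ P1 q1
    have i2 := inv _ P2 q2
    have i3 := inv _ P3 q3 g hg
    rw [← T_mul hqu P1.pq P2.pq] at i3
    have i4 : T Q u (e + f) * T Q u (e + q) * g * (T Q u (e + f) * T Q u (e + q))⁻¹ = g := by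
      calc T Q u (e + f) * T Q u (e + q) * g * (T Q u (e + f) * T Q u (e + q))⁻¹ =
          T Q u (e + f) * (T Q u (e + q) * g * (T Q u (e + q))⁻¹) * (T Q u (e + f))⁻¹ := by group
        _ = g := by rw [i2 g hg, i1 _ (X.inv_mem hg), inv_inv]
    rw [i4] at i3
    apply one_of_sq hodd hg
    nth_rewrite 1 [i3]
    exact inv_mul_cancel g

end

end Cfsg.Agent.OddHalf.D4.O2

end

-- merged: Cfsg.Agent.OddHalf.D4.O2.Main
section

/-!
# ODD, D4, rows `Ω^±_2n(2)`: no full pair
-/

set_option autoImplicit false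
set_option linter.unusedSectionVars false

namespace Cfsg.Agent.OddHalf.D4.O2

open QuadraticMap Cfsg.Agent.LieClassical.OrthCore Cfsg.Agent.LieClassical.OrthTrans
  Cfsg.Agent.ClassicalGeometry.OrthAutBasic Cfsg.Agent.ClassicalGeometry.OrthAutRoot
  Cfsg.Agent.ClassicalGeometry.OrthAutSylow Cfsg.Agent.OddHalf.D4.SigmaEnd

variable {F V : Type*} [Field F] [AddCommGroup V] [Module F V] {Q : QuadraticForm F V}

theorem finite_GL [Finite F] [FiniteDimensional F V] : Finite (V ≃ₗ[F] V) := by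
  have hfin : Finite V := Module.finite_of_finite F
  exact Finite.of_injective (fun g => (g : V → V)) DFunLike.coe_injective

section

variable (h2 : Two F)

include h2

theorem Two.charP : CharP F 2 := CharTwo.of_one_ne_zero_of_two_eq_zero one_ne_zero h2.two'

/-- `y T y⁻¹ = T` for all root elements `T` centralised by one of the `y`. -/
theorem OConf.cst {D N : Subgroup (V ≃ₗ[F] V)} [Finite (V ≃ₗ[F] V)] (hQ : Nondeg Q)
    (hd : 8 ≤ Module.finrank F V) {a b : V ≃ₗ[F] V} (oc : OConf Q D N a b) : Cst Q a b := by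
  have hfd : FiniteDimensional F V := Module.finite_of_finrank_pos (by omega)
  refine ⟨oc.aO, oc.bO, oc.aa, oc.bb, oc.ab, oc.a1, oc.b1, oc.ne, ?_⟩
  intro y y' hy hy' u w huw hc
  have yO : y' ∈ O Q := by
    rcases hy' with rfl | rfl | rfl
    · exact oc.aO
    · exact oc.bO
    · exact (O Q).mul_mem oc.aO oc.bO
  have hTD : T Q u w ∈ D := oc.cen y hy _ (T_mem_E u w) hc.symm
  have hTi : (T Q u w)⁻¹ = T Q u w := h2.T_inv
  have hc2 : ∀ p q, PQ Q p q → T Q p q ∉ N := fun p q hpq => OConf.c2 h2 hQ hd oc hpq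
  have hak : ∀ w, AK Q w → w ≠ 1 → w ∉ N := fun w hw hw1 => OConf.ak h2 hQ hd oc hw hw1
  have hodd : ∀ g ∈ O Q, T Q u w * (g * T Q u w * g⁻¹) ∈ N →
      Odd (orderOf (T Q u w * (g * T Q u w * g⁻¹))) := by
    intro g hg hN
    rw [T_conj hg] at hN ⊢
    exact odd_prod h2 hQ oc.toOC hc2 hak huw (huw.map hg) hN
  have hN : T Q u w * (y' * T Q u w * y'⁻¹) ∈ N := by
    have h3 := N.inv_mem (oc.comm y' hy' _ hTD)
    have h4 : (y' * T Q u w * y'⁻¹ * (T Q u w)⁻¹)⁻¹ = T Q u w * (y' * (T Q u w)⁻¹ * y'⁻¹) := by group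
    rw [h4, hTi] at h3
    exact h3
  have h5 := fix_of_odd (e := T Q u w) (e' := y' * T Q u w * y'⁻¹) h2.T_sq (T_ne_one hQ huw)
    (fun n hn => oc.norm _ hTD n hn) oc.core
    (fun n hn hnN => hodd n (E_le_O (oc.DE (oc.le hn))) hnN) (by
      calc y' * T Q u w * y'⁻¹ * (y' * T Q u w * y'⁻¹) = y' * (T Q u w * T Q u w) * y'⁻¹ := by group
        _ = 1 := by rw [h2.T_sq]; group) hN (hodd y' yO hN)
  rw [mul_inv_eq_iff_eq_mul] at h5
  exact h5

/-- Isometries commuting with `E Q`. -/
theorem eq_one_of_comm [Finite F] (hB : Big Q) {g : V ≃ₗ[F] V} (hg : g ∈ O Q)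
    (hc : ∀ x ∈ E Q, g * x = x * g) : g = 1 := by
  obtain ⟨c, hc1, hv⟩ := eq_smul_of_central hB hg fun u w _ => hc _ (T_mem_E u w)
  ext v
  rw [hv v]
  rcases hc1 with e | e
  · rw [e, one_smul]; rfl
  · rw [e, h2.negF, one_smul]; rfl

/-- **No configuration in `Ω(V)`.** -/
theorem false_of_conf (hQ : Nondeg Q) (hd : 8 ≤ Module.finrank F V)
    (haut : ∀ φ : MulAut ↥(E Q), ∃ g ∈ O Q, ∀ x : ↥(E Q), ((φ x : ↥(E Q)) : V ≃ₗ[F] V) = g * x * g⁻¹)
    {α β : MulAut ↥(E Q)} {D N : Subgroup ↥(E Q)} (h : Conf α β D N) : False := by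
  have hF := h2.finite
  have hfd : FiniteDimensional F V := Module.finite_of_finrank_pos (by omega)
  have hfin : Finite (V ≃ₗ[F] V) := finite_GL
  have hB : Big Q := ⟨hQ, by omega⟩
  have hchar := h2.charP
  obtain ⟨a, haO, ha⟩ := haut α
  obtain ⟨b, hbO, hb⟩ := haut β
  have hab' : ∀ x : ↥(E Q), (((α * β) x : ↥(E Q)) : V ≃ₗ[F] V) = (a * b) * x * (a * b)⁻¹ := by
    intro x
    show ((α (β x) : ↥(E Q)) : V ≃ₗ[F] V) = _
    rw [ha, hb]; group
  have uniq : ∀ g g' : V ≃ₗ[F] V, g ∈ O Q → g' ∈ O Q → (∀ x ∈ E Q, g * x * g⁻¹ = g' * x * g'⁻¹) → g = g' := by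
    intro g g' hg hg' h3
    have h4 : g'⁻¹ * g = 1 := by
      apply eq_one_of_comm h2 hB ((O Q).mul_mem ((O Q).inv_mem hg') hg)
      intro x hx
      have h5 := h3 x hx
      calc g'⁻¹ * g * x = g'⁻¹ * (g * x * g⁻¹) * g := by group
        _ = g'⁻¹ * (g' * x * g'⁻¹) * g := by rw [h5]
        _ = x * (g'⁻¹ * g) := by group
    calc g = g' * (g'⁻¹ * g) := by group
      _ = g' := by rw [h4, mul_one]
  have inj : ∀ (φ ψ : MulAut ↥(E Q)) (g g' : V ≃ₗ[F] V), g ∈ O Q → g' ∈ O Q →
      (∀ x : ↥(E Q), ((φ x : ↥(E Q)) : V ≃ₗ[F] V) = g * x * g⁻¹) →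
      (∀ x : ↥(E Q), ((ψ x : ↥(E Q)) : V ≃ₗ[F] V) = g' * x * g'⁻¹) → (φ = ψ ↔ g = g') := by
    intro φ ψ g g' hg hg' h3 h4
    constructor
    · intro e
      apply uniq g g' hg hg'
      intro x hx
      rw [← h3 ⟨x, hx⟩, ← h4 ⟨x, hx⟩, e]
    · intro e
      ext x
      rw [h3, h4, e]
  have hone : ∀ x : ↥(E Q), (((1 : MulAut ↥(E Q)) x : ↥(E Q)) : V ≃ₗ[F] V) = 1 * x * 1⁻¹ := by
    intro x
    show (x : V ≃ₗ[F] V) = _
    rw [one_mul, inv_one, mul_one]
  have hmulf : ∀ (φ ψ : MulAut ↥(E Q)) (g g' : V ≃ₗ[F] V),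
      (∀ x : ↥(E Q), ((φ x : ↥(E Q)) : V ≃ₗ[F] V) = g * x * g⁻¹) →
      (∀ x : ↥(E Q), ((ψ x : ↥(E Q)) : V ≃ₗ[F] V) = g' * x * g'⁻¹) →
      ∀ x : ↥(E Q), (((φ * ψ) x : ↥(E Q)) : V ≃ₗ[F] V) = (g * g') * x * (g * g')⁻¹ := by
    intro φ ψ g g' h3 h4 x
    show ((φ (ψ x) : ↥(E Q)) : V ≃ₗ[F] V) = _
    rw [h3, h4]; group
  have haa : a * a = 1 := (inj _ _ _ _ ((O Q).mul_mem haO haO) (O Q).one_mem (hmulf _ _ _ _ ha ha) hone).1 h.aa
  have hbb : b * b = 1 := (inj _ _ _ _ ((O Q).mul_mem hbO hbO) (O Q).one_mem (hmulf _ _ _ _ hb hb) hone).1 h.bb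
  have hab : a * b = b * a := (inj _ _ _ _ ((O Q).mul_mem haO hbO) ((O Q).mul_mem hbO haO)
    (hmulf _ _ _ _ ha hb) (hmulf _ _ _ _ hb ha)).1 h.ab
  have ha1 : a ≠ 1 := fun e => h.a1 ((inj _ _ _ _ haO (O Q).one_mem ha hone).2 e)
  have hb1 : b ≠ 1 := fun e => h.b1 ((inj _ _ _ _ hbO (O Q).one_mem hb hone).2 e)
  have hne : a ≠ b := fun e => h.ne ((inj _ _ _ _ haO hbO ha hb).2 e)
  -- the correspondence
  have corr : ∀ y, (y = a ∨ y = b ∨ y = a * b) → ∃ γ : MulAut ↥(E Q), (γ = α ∨ γ = β ∨ γ = α * β) ∧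
      ∀ x : ↥(E Q), ((γ x : ↥(E Q)) : V ≃ₗ[F] V) = y * x * y⁻¹ := by
    rintro y (rfl | rfl | rfl)
    · exact ⟨α, Or.inl rfl, ha⟩
    · exact ⟨β, Or.inr (Or.inl rfl), hb⟩
    · exact ⟨α * β, Or.inr (Or.inr rfl), hab'⟩
  have corr' : ∀ γ : MulAut ↥(E Q), (γ = α ∨ γ = β ∨ γ = α * β) → ∃ y, y ∈ O Q ∧ y * y = 1 ∧ y ≠ 1 ∧
      ∀ x : ↥(E Q), ((γ x : ↥(E Q)) : V ≃ₗ[F] V) = y * x * y⁻¹ := by
    rintro γ (rfl | rfl | rfl)
    · exact ⟨a, haO, haa, ha1, ha⟩
    · exact ⟨b, hbO, hbb, hb1, hb⟩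
    · refine ⟨a * b, (O Q).mul_mem haO hbO, ?_, ?_, hab'⟩
      · calc a * b * (a * b) = a * (b * a) * b := by group
          _ = a * (a * b) * b := by rw [hab]
          _ = (a * a) * (b * b) := by group
          _ = 1 := by rw [haa, hbb, one_mul]
      · intro e
        apply hne
        calc a = a * (b * b) := by rw [hbb, mul_one]
          _ = (a * b) * b := by group
          _ = b := by rw [e, one_mul]
  have hNO : NoOdd N := noOdd_of_conf h (by
    intro γ hγ X hX1 hX2 hX3
    obtain ⟨y, hyO, hyy, hy1, hy⟩ := corr' γ hγ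
    have h3 := core_trivial h2 hQ hd hyO hyy hy1 (X := X.map (E Q).subtype) (Subgroup.map_subtype_le X) (by
      rintro _ ⟨x, hx, rfl⟩
      have h4 := hy x
      rw [hX1 x hx] at h4
      show (x : V ≃ₗ[F] V) * y = y * x
      nth_rewrite 1 [h4]
      group) (by
      rintro g hg hgy _ ⟨x, hx, rfl⟩
      refine ⟨⟨g, hg⟩ * x * ⟨g, hg⟩⁻¹, hX2 ⟨g, hg⟩ (Subtype.ext ?_) x hx, rfl⟩
      rw [hy]
      show y * g * y⁻¹ = g
      rw [← hgy]; group) (by
      rw [Nat.card_congr (X.equivMapOfInjective _ (E Q).subtype_injective).toEquiv.symm]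
      exact hX3)
    rwa [Subgroup.map_eq_bot_iff_of_injective _ (E Q).subtype_injective] at h3)
  refine Cst.false (a := a) (b := b) h2 (OConf.cst h2 (D := D.map (E Q).subtype) (N := N.map (E Q).subtype) (a := a) (b := b) hQ hd ?_) hQ hd
  have mem_map : ∀ (H : Subgroup ↥(E Q)) (x : ↥(E Q)), (x : V ≃ₗ[F] V) ∈ H.map (E Q).subtype ↔ x ∈ H := by
    intro H x
    constructor
    · rintro ⟨x', hx', e⟩
      have : x' = x := Subtype.ext e
      rwa [this] at hx'
    · intro hx
      exact ⟨x, hx, rfl⟩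
  have ord2 : ∀ n : ↥(E Q), (n : V ≃ₗ[F] V) ≠ 1 → (n : V ≃ₗ[F] V) * n = 1 → orderOf n = 2 := by
    intro n hn1 hn2
    apply orderOf_eq_prime
    · rw [pow_two]; exact Subtype.ext hn2
    · intro e; exact hn1 (congrArg Subtype.val e)
  refine ⟨⟨?_, ?_, ?_, ?_, ?_⟩, haO, hbO, haa, hbb, hab, ha1, hb1, hne, ?_, ?_, ?_⟩
  · exact Subgroup.map_mono h.le
  · exact Subgroup.map_subtype_le D
  · rintro _ ⟨d, hd', rfl⟩ _ ⟨n, hn, rfl⟩
    exact ⟨d * n * d⁻¹, h.norm d hd' n hn, rfl⟩
  · rintro _ ⟨n, hn, rfl⟩ hn1 hn2 x hx hxn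
    exact ⟨⟨x, hx⟩, h.cenN n hn (ord2 n hn1 hn2) ⟨x, hx⟩ (Subtype.ext hxn), rfl⟩
  · intro u w huw hmem
    have h3 : (⟨T Q u w, T_mem_E u w⟩ : ↥(E Q)) ∈ N := (mem_map N ⟨T Q u w, T_mem_E u w⟩).1 hmem
    have hp : Fact (Nat.Prime 2) := ⟨Nat.prime_two⟩
    obtain ⟨P, hP1, hP2, _, _⟩ := exists_sylow hB huw 2
    obtain ⟨s, hs, hns⟩ := h.noCenN _ h3 (ord2 _ (T_ne_one hQ huw) h2.T_sq) P
    apply hns
    apply Subtype.ext
    show (s : V ≃ₗ[F] V) * T Q u w = T Q u w * s
    obtain ⟨c, hc⟩ := hP2 s hs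
    have h4 := T_conj (E_le_O s.2) u w
    rw [hP1 s hs, hc, T_add_smul huw.qu huw.perp, mul_inv_eq_iff_eq_mul] at h4
    exact h4
  · intro y hy x hx hxy
    obtain ⟨γ, hγ, h3⟩ := corr y hy
    refine ⟨⟨x, hx⟩, h.cen γ hγ ⟨x, hx⟩ (Subtype.ext ?_), rfl⟩
    rw [h3]
    show y * x * y⁻¹ = x
    rw [← hxy]; group
  · rintro y hy _ ⟨d, hd', rfl⟩
    obtain ⟨γ, hγ, h3⟩ := corr y hy
    refine ⟨γ d * d⁻¹, h.comm γ hγ d hd', ?_⟩
    show ((γ d : ↥(E Q)) : V ≃ₗ[F] V) * (d : V ≃ₗ[F] V)⁻¹ = _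
    rw [h3]
    rfl
  · intro X hXN hXn hXo
    have hXE : X ≤ E Q := hXN.trans (Subgroup.map_subtype_le N)
    have h3 := hNO (X.subgroupOf (E Q)) (by
      intro x hx
      exact (mem_map N x).1 (hXN (Subgroup.mem_subgroupOf.1 hx))) (by
      intro n hn x hx
      rw [Subgroup.mem_subgroupOf] at hx ⊢
      exact hXn n ((mem_map N n).2 hn) x hx) (by
      rw [Nat.card_congr (Subgroup.subgroupOfEquivOfLe hXE).toEquiv]
      exact hXo)
    rw [eq_bot_iff]
    intro x hx
    have h4 : (⟨x, hXE hx⟩ : ↥(E Q)) ∈ X.subgroupOf (E Q) := Subgroup.mem_subgroupOf.2 hx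
    rw [h3, Subgroup.mem_bot] at h4
    exact congrArg Subtype.val h4

end

end Cfsg.Agent.OddHalf.D4.O2

end

-- merged: Cfsg.Agent.OddHalf.D4.O2.Aut
section

/-!
# ODD, D4, rows `Ω^±_2n(2)`: `Aut Ω(V) = O(V)`
-/

set_option autoImplicit false
set_option linter.unusedSectionVars false

namespace Cfsg.Agent.OddHalf.D4.O2

open QuadraticMap Cfsg.Agent.LieClassical.OrthCore Cfsg.Agent.LieClassical.OrthTrans
  Cfsg.Agent.ClassicalGeometry.OrthAut1 Cfsg.Agent.AutOrth.SemiSim

variable {F V : Type*} [Field F] [AddCommGroup V] [Module F V] {Q : QuadraticForm F V}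

theorem center_bot (h2 : Two F) (hG : Good Q) : Subgroup.center ↥(E Q) = ⊥ := by
  rw [eq_bot_iff]
  intro z hz
  rw [Subgroup.mem_bot]
  obtain ⟨c, hc⟩ := center_scalar hG hz
  obtain ⟨x, hx0, _⟩ := hG.sing
  rcases h2 c with e | e
  · exfalso
    have h3 := hc x
    rw [e, zero_smul] at h3
    exact hx0 ((LinearEquiv.map_eq_zero_iff _).1 h3)
  · apply Subtype.ext
    ext v
    rw [hc v, e, one_smul]
    rfl

/-- `E Q ≃ P Q`. -/
noncomputable def eP (h2 : Two F) (hG : Good Q) : ↥(E Q) ≃* P Q :=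
  MulEquiv.ofBijective (QuotientGroup.mk' (Subgroup.center ↥(E Q)))
    ⟨by
      rw [← MonoidHom.ker_eq_bot_iff, QuotientGroup.ker_mk']
      exact center_bot h2 hG, QuotientGroup.mk'_surjective _⟩

theorem eP_apply (h2 : Two F) (hG : Good Q) (x : ↥(E Q)) : eP h2 hG x = (x : P Q) := rfl

/-- **Every automorphism of `Ω(V)` is conjugation by an isometry.** -/
theorem exists_iso [Finite F] [FiniteDimensional F V] (h2 : Two F) (hG : Good Q) (h7 : 7 ≤ Module.finrank F V)
    (h8 : Module.finrank F V = 8 → ∀ W : Submodule F V, TS Q W → Module.finrank F W ≠ 4) (α : MulAut ↥(E Q)) :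
    ∃ g ∈ O Q, ∀ x : ↥(E Q), ((α x : ↥(E Q)) : V ≃ₗ[F] V) = g * x * g⁻¹ := by
  obtain ⟨M, σ, c, hM, h⟩ := Cfsg.Agent.ClassicalGeometry.OrthAut4.exists_semi_P hG h7
    (MulAut.congr (eP h2 hG) α) (Cfsg.Agent.AutOrth.Main.pt_of_no_four hG h7 h8 _)
  have hσ : ∀ a : F, σ a = a := by
    intro a
    rcases h2 a with e | e
    · rw [e, map_zero]
    · rw [e, map_one]
  have hc : c = 1 := h2.eq_one hM.ne
  let g : V ≃ₗ[F] V := M.toLinearEquiv (by
    intro a v
    rw [hM.smul, hσ])
  have hg : g ∈ O Q := by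
    intro v
    show Q (M v) = Q v
    rw [hM.form, hc, one_mul, hσ]
  refine ⟨g, hg, fun x => ?_⟩
  have h3 := h x
  have h4 : MulAut.congr (eP h2 hG) α (x : P Q) = eP h2 hG (α x) := by
    show eP h2 hG (α ((eP h2 hG).symm (x : P Q))) = _
    rw [← eP_apply h2 hG, MulEquiv.symm_apply_apply]
  rw [h4] at h3
  have h5 : α x = conjE hM x := (eP h2 hG).injective h3
  rw [h5]
  ext v
  obtain ⟨v, rfl⟩ := M.surjective v
  rw [conjE_apply]
  show M _ = g ((x : V ≃ₗ[F] V) (g.symm (M v)))
  have h6 : g.symm (M v) = v := g.symm_apply_apply v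
  rw [h6]
  rfl

end Cfsg.Agent.OddHalf.D4.O2

end

-- merged: Cfsg.Agent.OddHalf.D4.AutOne
section

/-!
# ODD, D4: `AutFacts` from one Sylow 2-subgroup, transport of `AutFacts`
-/

set_option autoImplicit false

namespace Cfsg.Agent.OddHalf.D4.AutOne

open Cfsg Subgroup

variable {X Y : Type*} [Group X] [Group Y]

theorem orderOf_cj (g u : X) : orderOf (g * u * g⁻¹) = orderOf u :=
  orderOf_injective (MulAut.conj g).toMonoidHom (MulAut.conj g).injective u

/-- a Sylow 2-subgroup is conjugate to `S₀` -/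
theorem exists_conj [Finite X] (S S₀ : Sylow 2 X) : ∃ g : X, ∀ x, x ∈ S ↔ g * x * g⁻¹ ∈ S₀ := by
  obtain ⟨g, hg⟩ := MulAction.exists_smul_eq X S S₀
  refine ⟨g, fun x => ?_⟩
  rw [← hg]
  show x ∈ (S : Subgroup X) ↔ g * x * g⁻¹ ∈ ((g • S : Sylow 2 X) : Subgroup X)
  rw [Sylow.coe_subgroup_smul]
  constructor
  · intro hx
    exact ⟨x, hx, rfl⟩
  · rintro ⟨y, hy, hyx⟩
    have h1 : g * y * g⁻¹ = g * x * g⁻¹ := hyx
    have h2 : y = x := mul_left_cancel (mul_right_cancel h1)
    rwa [← h2]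

/-- **`AutFacts` from one Sylow 2-subgroup** -/
theorem of_one [Finite X] (S₀ : Sylow 2 X)
    (inner : ∀ φ : MulAut X, (∃ k : ℕ, φ ^ 2 ^ k = 1) → (∀ s ∈ S₀, φ s = s) → ∃ s ∈ S₀, φ = MulAut.conj s)
    (uniq : ∀ s ∈ S₀, orderOf s = 2 → (∀ u ∈ S₀, u * s = s * u) →
      ∀ s' ∈ S₀, orderOf s' = 2 → (∀ u ∈ S₀, u * s' = s' * u) → s = s')
    (bal : ∀ a : X, orderOf a = 2 → centralizerPPrimeCore 2 a = ⊥)
    (se : ∀ H : Subgroup X, ¬ IsStronglyEmbedded H) : AutFacts X := by
  have e1 : ∀ g x : X, g * (g⁻¹ * x * g) * g⁻¹ = x := fun g x => by group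
  have e2 : ∀ g x : X, g⁻¹ * (g * x * g⁻¹) * g = x := fun g x => by group
  refine ⟨?_, ?_, bal, se⟩
  · rintro S φ ⟨k, hk⟩ hS
    obtain ⟨g, hg⟩ := exists_conj S S₀
    obtain ⟨s, hs, hφ⟩ := inner (MulAut.conj g * φ * (MulAut.conj g)⁻¹) ⟨k, by
      rw [conj_pow, hk, mul_one, mul_inv_cancel]⟩ (by
      intro s hs
      have h1 : g⁻¹ * s * g ∈ S := by rw [hg, e1]; exact hs
      have h2 : ((MulAut.conj g)⁻¹ : MulAut X) s = g⁻¹ * s * g := MulAut.conj_inv_apply g s
      rw [MulAut.mul_apply, MulAut.mul_apply, h2, hS _ h1, MulAut.conj_apply, e1])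
    refine ⟨g⁻¹ * s * g, by rw [hg, e1]; exact hs, ?_⟩
    have h3 : φ = (MulAut.conj g)⁻¹ * MulAut.conj s * MulAut.conj g := by
      rw [← hφ]; group
    rw [h3, ← map_inv, ← map_mul, ← map_mul]
  · intro S s hs hs2 hsc s' hs' hs2' hsc'
    obtain ⟨g, hg⟩ := exists_conj S S₀
    have key : ∀ t, (∀ u ∈ S, u * t = t * u) → ∀ u ∈ S₀, u * (g * t * g⁻¹) = g * t * g⁻¹ * u := by
      intro t ht u hu
      have h1 := ht (g⁻¹ * u * g) (by rw [hg, e1]; exact hu)
      calc u * (g * t * g⁻¹) = g * ((g⁻¹ * u * g) * t) * g⁻¹ := by group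
        _ = g * (t * (g⁻¹ * u * g)) * g⁻¹ := by rw [h1]
        _ = g * t * g⁻¹ * u := by group
    have h1 := uniq (g * s * g⁻¹) ((hg s).mp hs) (by rw [orderOf_cj, hs2]) (key s hsc) (g * s' * g⁻¹)
      ((hg s').mp hs') (by rw [orderOf_cj, hs2']) (key s' hsc')
    exact mul_left_cancel (mul_right_cancel h1)

/-- the form of `inner` with "is inner" instead of "is conjugation by an element of `S₀`" -/
theorem inner_of_inn [Finite X] (hz : center X = ⊥) (S₀ : Sylow 2 X)
    (h : ∀ φ : MulAut X, (∃ k : ℕ, φ ^ 2 ^ k = 1) → (∀ s ∈ S₀, φ s = s) → ∃ x : X, φ = MulAut.conj x)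
    (φ : MulAut X) (hφ : ∃ k : ℕ, φ ^ 2 ^ k = 1) (hS : ∀ s ∈ S₀, φ s = s) :
    ∃ s ∈ S₀, φ = MulAut.conj s := by
  obtain ⟨x, hx⟩ := h φ hφ hS
  refine ⟨x, ?_, hx⟩
  obtain ⟨k, hk⟩ := hφ
  have h1 : x ^ 2 ^ k = 1 := by
    have h2 : MulAut.conj (x ^ 2 ^ k) = 1 := by rw [map_pow, ← hx, hk]
    have h3 : x ^ 2 ^ k ∈ center X := by
      rw [mem_center_iff]
      intro y
      have h4 : x ^ 2 ^ k * y * (x ^ 2 ^ k)⁻¹ = y := by
        have h5 : MulAut.conj (x ^ 2 ^ k) y = (1 : MulAut X) y := by rw [h2]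
        exact h5
      calc y * x ^ 2 ^ k = (x ^ 2 ^ k * y * (x ^ 2 ^ k)⁻¹) * x ^ 2 ^ k := by rw [h4]
        _ = x ^ 2 ^ k * y := by group
    rw [hz, mem_bot] at h3
    exact h3
  have hc : ∀ s ∈ S₀, x * s * x⁻¹ = s := by
    intro s hs
    have := hS s hs
    rwa [hx, MulAut.conj_apply] at this
  have h5 : IsPGroup 2 ↥(zpowers x) := by
    rw [IsPGroup.iff_card]
    obtain ⟨m, -, hm⟩ := (Nat.dvd_prime_pow Nat.prime_two).mp (orderOf_dvd_of_pow_eq_one h1)
    exact ⟨m, by rw [Nat.card_zpowers, hm]⟩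
  have h6 : zpowers x ≤ normalizer ((S₀ : Subgroup X) : Set X) := by
    rw [zpowers_le, mem_normalizer_iff]
    intro s
    constructor
    · intro hs
      rw [hc s hs]; exact hs
    · intro hs
      have h7 := hc _ hs
      have h8 : x * s * x⁻¹ = s := mul_left_cancel (mul_right_cancel h7)
      rwa [h8] at hs
  have h7 : IsPGroup 2 ↥(zpowers x ⊔ (S₀ : Subgroup X) : Subgroup X) :=
    h5.to_sup_of_normal_right' S₀.isPGroup' h6
  have h8 := S₀.is_maximal' h7 le_sup_right
  have h9 : x ∈ (zpowers x ⊔ (S₀ : Subgroup X) : Subgroup X) := mem_sup_left (mem_zpowers x)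
  rw [h8] at h9
  exact h9

/-- the image of a Sylow subgroup under an isomorphism -/
theorem exists_sylow_map (e : X ≃* Y) (S : Sylow 2 X) : ∃ T : Sylow 2 Y, ∀ x, x ∈ S ↔ e x ∈ T := by
  have h2 : IsPGroup 2 ↥((S : Subgroup X).comap e.symm.toMonoidHom) :=
    S.2.comap_of_injective _ e.symm.injective
  refine ⟨⟨(S : Subgroup X).comap e.symm.toMonoidHom, h2, ?_⟩, fun x => ?_⟩
  · intro Q hQ hle
    have h1 : IsPGroup 2 ↥(Q.comap e.toMonoidHom) := hQ.comap_of_injective _ e.injective
    have h3 : (S : Subgroup X) ≤ Q.comap e.toMonoidHom := by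
      intro s hs
      apply hle
      show e.symm (e s) ∈ (S : Subgroup X)
      rw [e.symm_apply_apply]; exact hs
    have h4 := S.3 h1 h3
    apply le_antisymm _ hle
    intro q hq
    show e.symm q ∈ (S : Subgroup X)
    rw [← h4]
    show e (e.symm q) ∈ Q
    rw [e.apply_symm_apply]; exact hq
  · show x ∈ (S : Subgroup X) ↔ e.symm (e x) ∈ (S : Subgroup X)
    rw [e.symm_apply_apply]

theorem centralizerPPrimeCore_equiv [Finite X] [Finite Y] (e : X ≃* Y) {a : X}
    (h : centralizerPPrimeCore 2 (e a) = ⊥) : centralizerPPrimeCore 2 a = ⊥ := by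
  let I := centralizerPPrimeCore 2 a
  have hI : I.map e.toMonoidHom = ⊥ := by
    apply eq_bot_of_core h
    · rintro _ ⟨i, ⟨c, hc, rfl⟩, rfl⟩
      have h1 := mem_centralizer_singleton_iff.mp c.2
      show e (c : X) * e a = e a * e (c : X)
      rw [← map_mul, ← map_mul]
      exact congrArg e h1
    · rintro x hx _ ⟨i, ⟨c, hc, rfl⟩, rfl⟩
      have h1 : e.symm x * a = a * e.symm x := by
        apply e.injective
        rw [map_mul, map_mul, e.apply_symm_apply, hx]
      have h2 : e.symm x ∈ centralizer ({a} : Set X) := mem_centralizer_singleton_iff.mpr h1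
      have hn : (pPrimeCore 2 ↥(centralizer ({a} : Set X))).Normal := inferInstance
      refine ⟨e.symm x * c * (e.symm x)⁻¹, ⟨⟨e.symm x, h2⟩ * c * ⟨e.symm x, h2⟩⁻¹, hn.conj_mem c hc _, rfl⟩, ?_⟩
      show e (e.symm x * c * (e.symm x)⁻¹) = x * e (c : X) * x⁻¹
      rw [map_mul, map_mul, map_inv, e.apply_symm_apply]
    · have h1 : Nat.card ↥(I.map e.toMonoidHom) = Nat.card ↥I :=
        (Nat.card_congr (I.equivMapOfInjective _ e.injective).toEquiv).symm
      have h2 : Nat.card ↥I = Nat.card ↥(pPrimeCore 2 ↥(centralizer ({a} : Set X))) :=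
        (Nat.card_congr ((pPrimeCore 2 ↥(centralizer ({a} : Set X))).equivMapOfInjective _
          (centralizer ({a} : Set X)).subtype_injective).toEquiv).symm
      rw [h1, h2]
      exact Nat.coprime_two_right.mp (Cfsg.Agent.Lib.Cores.pPrimeCore_coprime 2)
  exact (Subgroup.map_eq_bot_iff_of_injective I e.injective).mp hI

theorem not_se_equiv (e : X ≃* Y) (h : ∀ H : Subgroup Y, ¬ IsStronglyEmbedded H) (H : Subgroup X) :
    ¬ IsStronglyEmbedded H := by
  intro hH
  apply h (H.map e.toMonoidHom)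
  have hcard : ∀ A : Subgroup X, Nat.card ↥(A.map e.toMonoidHom) = Nat.card ↥A := fun A =>
    (Nat.card_congr (A.equivMapOfInjective _ e.injective).toEquiv).symm
  refine ⟨?_, ?_, ?_⟩
  · intro h1
    apply hH.1
    rw [eq_top_iff]
    intro x _
    have h2 : e x ∈ H.map e.toMonoidHom := by rw [h1]; exact mem_top _
    obtain ⟨y, hy, hyx⟩ := h2
    have h3 : y = x := e.injective hyx
    rwa [← h3]
  · rw [hcard]; exact hH.2.1
  · intro g hg
    have h1 : e.symm g ∉ H := by
      intro h2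
      exact hg ⟨e.symm g, h2, e.apply_symm_apply g⟩
    have h2 := hH.2.2 _ h1
    have h3 : H.map e.toMonoidHom ⊓ (H.map e.toMonoidHom).map (MulAut.conj g).toMonoidHom
        = (H ⊓ H.map (MulAut.conj (e.symm g)).toMonoidHom).map e.toMonoidHom := by
      ext y
      constructor
      · rintro ⟨⟨a, ha, rfl⟩, ⟨_, ⟨b, hb, rfl⟩, hab⟩⟩
        refine ⟨a, ⟨ha, ⟨b, hb, ?_⟩⟩, rfl⟩
        apply e.injective
        show e (e.symm g * b * (e.symm g)⁻¹) = e a
        rw [map_mul, map_mul, map_inv, e.apply_symm_apply]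
        exact hab
      · rintro ⟨a, ⟨ha, ⟨b, hb, hab⟩⟩, rfl⟩
        refine ⟨⟨a, ha, rfl⟩, ⟨e b, ⟨b, hb, rfl⟩, ?_⟩⟩
        have h4 : e.symm g * b * (e.symm g)⁻¹ = a := hab
        show g * e b * g⁻¹ = e a
        rw [← h4, map_mul, map_mul, map_inv, e.apply_symm_apply]
    rw [h3, hcard]
    exact h2

/-- **transport of `AutFacts`** -/
theorem of_equiv [Finite X] [Finite Y] (e : X ≃* Y) (h : AutFacts Y) : AutFacts X := by
  refine ⟨?_, ?_, ?_, not_se_equiv e h.se⟩
  · rintro S φ ⟨k, hk⟩ hS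
    obtain ⟨T, hT⟩ := exists_sylow_map e S
    have hT' : ∀ y ∈ T, e.symm y ∈ S := by
      intro y hy
      rw [hT, e.apply_symm_apply]; exact hy
    obtain ⟨t, ht, hφ⟩ := h.inner T (MulAut.congr e φ) ⟨k, by rw [← map_pow, hk, map_one]⟩ (by
      intro y hy
      show e (φ (e.symm y)) = y
      rw [hS _ (hT' y hy), e.apply_symm_apply])
    refine ⟨e.symm t, hT' t ht, ?_⟩
    ext x
    have h1 : MulAut.congr e φ (e x) = t * e x * t⁻¹ := by rw [hφ]; rfl
    have h2 : e (φ x) = t * e x * t⁻¹ := by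
      rw [← h1]
      show e (φ x) = e (φ (e.symm (e x)))
      rw [e.symm_apply_apply]
    apply e.injective
    rw [h2, MulAut.conj_apply, map_mul, map_mul, map_inv, e.apply_symm_apply]
  · intro S s hs hs2 hsc s' hs' hs2' hsc'
    obtain ⟨T, hT⟩ := exists_sylow_map e S
    have ho : ∀ x : X, orderOf (e x) = orderOf x := fun x => orderOf_injective e.toMonoidHom e.injective x
    have key : ∀ t, (∀ u ∈ S, u * t = t * u) → ∀ u ∈ T, u * e t = e t * u := by
      intro t ht u hu
      have h1 := ht (e.symm u) (by rw [hT, e.apply_symm_apply]; exact hu)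
      have h2 := congrArg e h1
      rwa [map_mul, map_mul, e.apply_symm_apply] at h2
    exact e.injective (h.uniq T (e s) ((hT s).mp hs) (by rw [ho, hs2]) (key s hsc) (e s') ((hT s').mp hs')
      (by rw [ho, hs2']) (key s' hsc'))
  · intro a ha
    apply centralizerPPrimeCore_equiv e
    apply h.bal
    rw [← ha]
    exact orderOf_injective e.toMonoidHom e.injective a

end Cfsg.Agent.OddHalf.D4.AutOne

end

-- merged: Cfsg.Agent.OddHalf.D4.Orth2.Facts
section

/-!
# ODD, D4, rows `Ω^±_2n(2)`: the facts `AutFacts (E Q)`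

`autFacts`: over the field with two elements, in dimension at least 8, if every automorphism of `E Q` is conjugation
by an isometry and `O(C(a)) = 1` for the involutions `a`.
-/

set_option autoImplicit false

namespace Cfsg.Agent.OddHalf.D4.Orth2.Facts

open QuadraticMap Cfsg.Agent.LieClassical.OrthCore Cfsg.Agent.LieClassical.OrthTrans
  Cfsg.Agent.ClassicalGeometry.OrthAutBasic Cfsg.Agent.ClassicalGeometry.OrthAutRoot
  Cfsg.Agent.ClassicalGeometry.OrthAutSylow Cfsg.Agent.OddHalf.D4.O2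

variable {F V : Type*} [Field F] [AddCommGroup V] [Module F V] {Q : QuadraticForm F V}

theorem charP (h2 : Two F) : CharP F 2 := CharTwo.of_one_ne_zero_of_two_eq_zero one_ne_zero h2.two'

theorem finite_E [Finite F] [Module.Finite F V] : Finite ↥(E Q) := by
  have hfin : Finite V := Module.finite_of_finite F
  have hfinE : Finite (V ≃ₗ[F] V) := Finite.of_injective (fun g => (g : V → V)) DFunLike.coe_injective
  infer_instance

/-- A singular line with a nonsingular vector orthogonal to `x`. -/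
theorem exists_data [Finite F] (hB : Big Q) : ∃ x z v : V, Ln Q x z ∧ polar Q x v = 0 ∧ Q v = 1 := by
  obtain ⟨x, y, hy⟩ := hB.good.exists_hyp
  obtain ⟨z, w, hzw, hxz, hxw, hyz, hyw⟩ := hB.good.exists_hyp2 hy
  refine ⟨x, z, z + w, ⟨hy.left, hzw.left, hxz, hy.left_ne, ?_⟩, ?_, ?_⟩
  · intro c hcc
    have := hzw.pair
    rw [hcc, polar_smul_left, hxw, smul_zero] at this
    exact zero_ne_one this
  · rw [polar_add_right, hxz, hxw, add_zero]
  · rw [Q_add, hzw.left, hzw.right, hzw.pair]; simp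

/-- An isometry commuting with all `T x w` is one of them. -/
theorem eq_T_of_comm (h2 : Two F) [Finite F] (hB : Big Q) {g : V ≃ₗ[F] V} (hg : g ∈ O Q) {x : V}
    (hx : Q x = 0) (hx0 : x ≠ 0) (h : ∀ w, polar Q x w = 0 → g * T Q x w * g⁻¹ = T Q x w) :
    ∃ w0, polar Q x w0 = 0 ∧ g = T Q x w0 := by
  have hgx : g x = x := by
    obtain ⟨c, hc⟩ := eq_smul_of_fix_rad hB hx hx0 (v := g x) (by
      intro w hw
      have h1 : T Q x w * g = g * T Q x w := by
        rw [← mul_inv_eq_iff_eq_mul, mul_assoc]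
        have h3 := h w hw
        have h4 : T Q x w = g⁻¹ * T Q x w * g := by
          calc T Q x w = g⁻¹ * (g * T Q x w * g⁻¹) * g := by group
            _ = _ := by rw [h3]
        calc T Q x w * (g * (T Q x w)⁻¹) = (g * T Q x w * g⁻¹) * (g * (T Q x w)⁻¹) := by rw [h3]
          _ = g := by group
      have h5 : (T Q x w * g) x = (g * T Q x w) x := by rw [h1]
      have h6 : T Q x w (g x) = g (T Q x w x) := h5
      rw [h6, T_apply_self hx hw])
    rcases h2 c with h3 | h3
    · exfalso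
      rw [h3, zero_smul] at hc
      exact hx0 ((LinearEquiv.map_eq_zero_iff g).1 hc)
    · rw [hc, h3, one_smul]
  refine eq_T_of_comm_rad hB hg hx hx0 hgx fun w hw => ?_
  rw [← T_conj hg]
  exact h w hw

/-- `T x u`, `Q u = 0`, and `T x v`, `Q v = 1`, are not conjugate. -/
theorem not_conj [Finite F] (hB : Big Q) {x z v : V} (h : Ln Q x z) (hv : polar Q x v = 0) (hv1 : Q v = 1)
    {g : V ≃ₗ[F] V} (hg : g ∈ O Q) (e : g * T Q x z * g⁻¹ = T Q x v) : False := by
  obtain ⟨y, hy⟩ := hB.nondeg.exists_polar_eq h.ne 1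
  have h1 : Q (T Q x v y - y) = 1 := by
    rw [T_apply h.qu hv, hy]
    have e1 : y + (1 : F) • v - polar Q v y • x - (Q v * 1) • x - y = v + (-(polar Q v y) - Q v) • x := by module
    rw [e1, Q_add, QuadraticMap.map_smul, polar_smul_right, h.qu, polar_comm Q v x, hv, hv1]
    simp
  have h3 : Q (T Q x v y - y) = 0 := by
    rw [← e]
    have e1 : (g * T Q x z * g⁻¹) y - y = g (T Q x z (g⁻¹ y) - g⁻¹ y) := by
      have e2 : g (g⁻¹ y) = y := g.apply_symm_apply y
      rw [map_sub, e2]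
      rfl
    rw [e1, mem_O.1 hg, T_apply h.qu h.perp, h.qw]
    have e3 : ∀ t : V, t + polar Q x t • z - polar Q z t • x - (0 * polar Q x t) • x - t =
        polar Q x t • z + (-(polar Q z t)) • x := fun t => by module
    rw [e3, Q_add, QuadraticMap.map_smul, QuadraticMap.map_smul, polar_smul_right, polar_smul_left, h.qu, h.qw,
      h.perp']
    simp
  rw [h1] at h3
  exact one_ne_zero h3

/-- **The facts of D4 for `Ω^±_2n(2)`.** -/
theorem autFacts (h2 : Two F) (hQ : Nondeg Q) (hd : 8 ≤ Module.finrank F V)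
    (haut : ∀ φ : MulAut ↥(E Q), ∃ g ∈ O Q, ∀ x : ↥(E Q), ((φ x : ↥(E Q)) : V ≃ₗ[F] V) = g * x * g⁻¹)
    (hbal : ∀ a : ↥(E Q), orderOf a = 2 → centralizerPPrimeCore 2 a = ⊥) : AutFacts ↥(E Q) := by
  have hfF : Finite F := h2.finite
  have hfd : FiniteDimensional F V := Module.finite_of_finrank_pos (by omega)
  have hfE : Finite ↥(E Q) := finite_E
  have hp : Fact (Nat.Prime 2) := ⟨Nat.prime_two⟩
  have hch : CharP F 2 := charP h2
  have hB : Big Q := ⟨hQ, by omega⟩
  obtain ⟨x, u, v, h, hv, hv1⟩ := exists_data hB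
  obtain ⟨P, hP1, hP2, hP3, hP4⟩ := exists_sylow hB h 2
  refine AutOne.of_one P ?_ ?_ hbal ?_
  · -- (F1)
    rintro φ - hφ
    obtain ⟨g, hg, hgφ⟩ := haut φ
    obtain ⟨w0, hw0, e⟩ := eq_T_of_comm h2 hB hg h.qu h.ne (by
      intro w hw
      have h3 := hφ _ (hP3 w hw)
      have h4 := hgφ ⟨T Q x w, T_mem_E x w⟩
      rw [h3] at h4
      exact h4.symm)
    refine ⟨⟨T Q x w0, T_mem_E x w0⟩, hP3 w0 hw0, ?_⟩
    ext y : 1
    apply Subtype.ext
    rw [hgφ y, e]
    rfl
  · -- (F5)
    have key : ∀ s ∈ P, orderOf s = 2 → (∀ t ∈ P, t * s = s * t) → (s : V ≃ₗ[F] V) = T Q x u := by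
      intro s hs hs2 hsc
      have hsc' : ∀ t ∈ P, (t : V ≃ₗ[F] V) * s = s * t := fun t ht => congrArg Subtype.val (hsc t ht)
      have hsO : (s : V ≃ₗ[F] V) ∈ O Q := E_le_O s.2
      obtain ⟨w0, hw0, e⟩ := eq_T_of_comm h2 hB hsO h.qu h.ne (by
        intro w hw
        have h3 := hsc' _ (hP3 w hw)
        have h4 : T Q x w * s = s * T Q x w := h3
        rw [← h4]; group)
      have hL : w0 ∈ L F x u := by
        apply mem_L_of_comm hB h hw0
        intro z hxz huz
        have e1 : T Q u z x = x := T_fix h.perp' (by rw [polar_comm]; exact hxz)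
        have e2 := T_conj (T_mem_O (Q := Q) u z) x w0
        rw [e1, ← e] at e2
        have e3 : T Q u z * (s : V ≃ₗ[F] V) = s * T Q u z := hsc' _ (hP4 z hxz huz)
        rw [← e2, e3, ← e]
        group
      obtain ⟨a, c, hac⟩ := mem_L.1 hL
      have hcu : polar Q x (c • u) = 0 := by rw [polar_smul_right, h.perp, smul_zero]
      have e4 : (s : V ≃ₗ[F] V) = T Q x (c • u) := by
        rw [e, ← hac, add_comm, T_add_smul h.qu hcu]
      rcases h2 c with hc | hc
      · exfalso
        rw [hc, zero_smul, T_zero_right] at e4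
        have h5 : s = 1 := Subtype.ext e4
        rw [h5, orderOf_one] at hs2
        omega
      · rw [e4, hc, one_smul]
    intro s hs hs2 hsc s' hs' hs2' hsc'
    apply Subtype.ext
    rw [key s hs hs2 hsc, key s' hs' hs2' hsc']
  · -- no strongly embedded subgroup
    intro H hH
    have ho : ∀ w, polar Q x w = 0 → T Q x w ≠ 1 → orderOf (⟨T Q x w, T_mem_E x w⟩ : ↥(E Q)) = 2 := by
      intro w hw hne
      apply orderOf_eq_prime
      · apply Subtype.ext
        show T Q x w ^ 2 = 1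
        rw [pow_two, h2.T_sq]
      · intro h3
        exact hne (congrArg Subtype.val h3)
    have h3 : T Q x v ≠ 1 := by
      intro h3
      obtain ⟨y, hy⟩ := hQ.exists_polar_eq h.ne 1
      have h4 : Q (T Q x v y - y) = 1 := by
        rw [T_apply h.qu hv, hy]
        have e1 : y + (1 : F) • v - polar Q v y • x - (Q v * 1) • x - y = v + (-(polar Q v y) - Q v) • x := by
          module
        rw [e1, Q_add, QuadraticMap.map_smul, polar_smul_right, h.qu, polar_comm Q v x, hv, hv1]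
        simp
      rw [h3] at h4
      have h5 : (1 : V ≃ₗ[F] V) y - y = 0 := sub_self y
      rw [h5, QuadraticMap.map_zero] at h4
      exact zero_ne_one h4
    have h4 : T Q x u ≠ 1 := T_ne_one hQ h
    obtain ⟨g, hg⟩ := isConj_iff.1 (TwoFusion.StronglyEmbeddedBasic.isConj_of_involutions hH _ _
      (ho u h.perp h4) (ho v hv h3))
    exact not_conj hB h hv hv1 (E_le_O g.2) (congrArg Subtype.val hg)

end Cfsg.Agent.OddHalf.D4.Orth2.Facts

end

-- merged: Cfsg.Agent.OddHalf.D4.O2.Row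
section

/-!
# ODD, D4: the rows `Ω⁺_2m(2)`, `m ≥ 5`, and `Ω⁻_2m(2)`, `m ≥ 4`
-/

set_option autoImplicit false
set_option linter.unusedSectionVars false

namespace Cfsg.Agent.OddHalf.D4.O2

open QuadraticMap Cfsg.Agent.LieClassical.OrthCore Cfsg.Agent.LieClassical.OrthTrans
  Cfsg.Agent.OddHalf.D4.Basic Cfsg.Agent.LieClassical Cfsg.Agent.ClassicalGeometry.OrthAut1

universe u

section

variable {F V : Type*} [Field F] [AddCommGroup V] [Module F V] {Q : QuadraticForm F V}

theorem core_conj {X : Type*} [Group X] {a g x : X} (hg : g * a = a * g) (hx : x ∈ centralizerPPrimeCore 2 a) :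
    g * x * g⁻¹ ∈ centralizerPPrimeCore 2 a := by
  obtain ⟨x', hx', rfl⟩ := hx
  have hgc : g ∈ Subgroup.centralizer ({a} : Set X) := Subgroup.mem_centralizer_singleton_iff.mpr hg
  exact ⟨⟨g, hgc⟩ * x' * ⟨g, hgc⟩⁻¹, (Cfsg.Agent.Lib.Cores.pPrimeCore_normal 2).conj_mem _ hx' _, rfl⟩

/-- (F0): `O(C(a)) = 1`. -/
theorem bal_E (h2 : Two F) (hQ : Nondeg Q) (hd : 8 ≤ Module.finrank F V) (a : ↥(E Q)) (ha : orderOf a = 2) :
    centralizerPPrimeCore 2 a = ⊥ := by
  have hF := h2.finite
  have hfd : FiniteDimensional F V := Module.finite_of_finrank_pos (by omega)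
  have hfin : Finite (V ≃ₗ[F] V) := finite_GL
  have haa : a * a = 1 := by rw [← pow_two, ← ha]; exact pow_orderOf_eq_one a
  have ha1 : a ≠ 1 := by
    rintro rfl
    rw [orderOf_one] at ha
    omega
  have hcen : ∀ x ∈ centralizerPPrimeCore 2 a, x * a = a * x := by
    rintro _ ⟨⟨x, hx⟩, _, rfl⟩
    exact Subgroup.mem_centralizer_singleton_iff.mp hx
  have hcard : Odd (Nat.card ↥(centralizerPPrimeCore 2 a)) := by
    have h3 := Cfsg.Agent.Lib.Cores.pPrimeCore_coprime (G := ↥(Subgroup.centralizer ({a} : Set ↥(E Q)))) 2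
    rw [← Nat.coprime_two_right]
    unfold centralizerPPrimeCore
    rwa [Nat.card_congr ((pPrimeCore 2 ↥(Subgroup.centralizer ({a} : Set ↥(E Q)))).equivMapOfInjective _
      (Subgroup.subtype_injective _)).toEquiv.symm]
  have h3 := core_trivial h2 hQ hd (y := (a : V ≃ₗ[F] V)) (E_le_O a.2) (congrArg Subtype.val haa)
    (fun e => ha1 (Subtype.ext e)) (X := (centralizerPPrimeCore 2 a).map (E Q).subtype)
    (Subgroup.map_subtype_le _) (by
      rintro _ ⟨x, hx, rfl⟩
      exact congrArg Subtype.val (hcen x hx)) (by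
      rintro g hg hga _ ⟨x, hx, rfl⟩
      exact ⟨⟨g, hg⟩ * x * ⟨g, hg⟩⁻¹, core_conj (g := ⟨g, hg⟩) (Subtype.ext hga) hx, rfl⟩) (by
      rw [Nat.card_congr ((centralizerPPrimeCore 2 a).equivMapOfInjective _ (E Q).subtype_injective).toEquiv.symm]
      exact hcard)
  rwa [Subgroup.map_eq_bot_iff_of_injective _ (E Q).subtype_injective] at h3

end

/-- `X` is one of the groups `Ω(V)` of this folder. -/
def IsE (X : Type u) [Group X] : Prop :=
  ∃ (F : Type) (V : Type) (_ : Field F) (_ : AddCommGroup V) (_ : Module F V) (Q : QuadraticForm F V),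
    Two F ∧ Nondeg Q ∧ 8 ≤ Module.finrank F V ∧
    (∀ φ : MulAut ↥(E Q), ∃ g ∈ O Q, ∀ x : ↥(E Q), ((φ x : ↥(E Q)) : V ≃ₗ[F] V) = g * x * g⁻¹) ∧
    Nonempty (X ≃* ↥(E Q))

/-- **The facts of D4.** -/
theorem IsE.autFacts {X : Type u} [Group X] (h : IsE X) : AutFacts X := by
  obtain ⟨F, V, _, _, _, Q, h2, hQ, hd, haut, ⟨e⟩⟩ := h
  have hF := h2.finite
  have hfd : FiniteDimensional F V := Module.finite_of_finrank_pos (by omega)
  have hfin : Finite (V ≃ₗ[F] V) := finite_GL
  have hfX : Finite X := Finite.of_equiv _ e.symm.toEquiv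
  exact AutOne.of_equiv e (Orth2.Facts.autFacts h2 hQ hd haut (bal_E h2 hQ hd))

/-- **No configuration.** -/
theorem IsE.false_of_conf {X : Type u} [Group X] (h : IsE X) {α β : MulAut X} {D N : Subgroup X}
    (hc : Conf α β D N) : False := by
  obtain ⟨F, V, _, _, _, Q, h2, hQ, hd, haut, ⟨e⟩⟩ := h
  exact O2.false_of_conf h2 hQ hd haut (hc.map e)

/-- **A row of `Cut.lean` from `AutFacts` and "no configuration".** -/
theorem row_of_noConf (h1173 : Start.P1173.{u}) {P : (K : Type u) → [Group K] → Prop}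
    (hF : ∀ (X : Type u) [Group X] [Finite X] [IsSimpleGroup X], P X → AutFacts X)
    (hno : ∀ (X : Type u) [Group X] [Finite X] [IsSimpleGroup X], P X →
      ∀ (α β : MulAut X) (D N : Subgroup X), Conf α β D N → False) : Cut.Row1.{u} P := by
  apply Start.row_of_pair h1173 hF
  intro G _ hG K L Q U _ hD hp hP
  have := hG.fin
  have := hD.simple
  have hrL : Rk2 L := by
    obtain ⟨g, _, rfl⟩ := hp.conj
    exact hD.rk.cj g
  obtain ⟨y, hy, u, hu, hy2, hu2, hyu, hne⟩ := hrL.exists_syl hp.sylU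
  have hUK := hp.leU hD.loc.tight hD.loc.even
  exact hno ↥K hP _ _ _ _ (hp.conf hD.loc (hUK hy) (hUK hu) (hp.sylU.le hy) (hp.sylU.le hu) hy2 hu2 hyu hne)

theorem row_isE (h1173 : Start.P1173.{u}) : Cut.Row1.{u} (fun K _ => IsE K) :=
  row_of_noConf h1173 (fun _ _ _ _ h => h.autFacts) fun _ _ _ _ h _ _ _ _ hc => h.false_of_conf hc

theorem two_of_card {F : Type*} [Field F] [Fintype F] (h : Fintype.card F = 2) : Two F := by
  classical
  intro a
  by_contra hcon
  push Not at hcon
  have h3 : ({0, 1, a} : Finset F).card ≤ Fintype.card F := Finset.card_le_univ _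
  rw [h, Finset.card_insert_of_notMem (by
    simp only [Finset.mem_insert, Finset.mem_singleton, not_or]
    exact ⟨zero_ne_one, hcon.1.symm⟩), Finset.card_insert_of_notMem (by
    simp only [Finset.mem_singleton]
    exact hcon.2.symm), Finset.card_singleton] at h3
  omega

theorem exists_congr {ι : Type} [Fintype ι] [DecidableEq ι] {F : Type*} [Field F] {q q' : (ι → F) → F} (h : q = q') :
    Nonempty (POmega F q ≃* POmega F q') := by
  subst h
  exact ⟨MulEquiv.refl _⟩

/-- The transport. -/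
theorem isE_of_equiv {X : Type u} [Group X] {ι F : Type} [Fintype ι] [DecidableEq ι] [Field F] {q : (ι → F) → F}
    (e : X ≃* POmega F q) (Q : QuadraticForm F (ι → F)) (hq : ⇑Q = q) (h2 : Two F) (hG : Good Q)
    (h8 : 8 ≤ Module.finrank F (ι → F))
    (h4 : Module.finrank F (ι → F) = 8 → ∀ (W : Submodule F (ι → F)), TS Q W → Module.finrank F ↥W ≠ 4) : IsE X := by
  obtain ⟨e'⟩ := exists_congr hq.symm
  have hF := h2.finite
  exact ⟨F, ι → F, _, _, _, Q, h2, hG.nondeg, h8, exists_iso h2 hG (by omega) h4,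
    ⟨(e.trans e').trans ((AutOrth.Main.pe hG).trans (eP h2 hG).symm)⟩⟩

theorem isE_plus {X : Type u} [Group X] (h : Cut.Op2 X) : IsE X := by
  obtain ⟨F, _, _, m, hF, hm, ⟨e⟩⟩ := h
  have h2 := two_of_card hF
  have hG : Good (QuadForms.plusForm m F) := AutOrth.Main.good_plus (by omega)
  have hr : Module.finrank F (Fin m ⊕ Fin m → F) = m + m := by
    rw [Module.finrank_fintype_fun_eq_card, Fintype.card_sum, Fintype.card_fin]
  exact isE_of_equiv e _ (QuadForms.coe_plusForm m) h2 hG (by omega) (fun h8 => by omega)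

theorem isE_minus {X : Type u} [Group X] (h : Cut.Om2 X) : IsE X := by
  obtain ⟨F, _, _, m, b, c, hF, hm, hbc, ⟨e⟩⟩ := h
  have h2 := two_of_card hF
  have hG : Good (QuadForms.minusForm (m - 1) F b c) := AutOrth.Main.good_minus (by omega) hbc
  have hr : Module.finrank F ((Fin (m - 1) ⊕ Fin (m - 1)) ⊕ Fin 2 → F) = (m - 1) + (m - 1) + 2 := by
    rw [Module.finrank_fintype_fun_eq_card, Fintype.card_sum, Fintype.card_sum, Fintype.card_fin, Fintype.card_fin]
  refine isE_of_equiv e _ (QuadForms.coe_minusForm (m - 1) b c) h2 hG (by omega) (fun h8 W hW h4 => ?_)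
  have h1 := AutOrth.Main.finrank_le_of_TS_minus (m - 1) b c hbc hW
  omega

/-- **The row `Ω⁺_2m(2)`, `m ≥ 5`.** -/
theorem row_op2 (h1173 : Start.P1173.{u}) : Cut.Row1.{u} (fun K _ => Cut.Op2 K) :=
  (row_isE h1173).mono fun _ _ h => isE_plus h

/-- **The row `Ω⁻_2m(2)`, `m ≥ 4`.** -/
theorem row_om2 (h1173 : Start.P1173.{u}) : Cut.Row1.{u} (fun K _ => Cut.Om2 K) :=
  (row_isE h1173).mono fun _ _ h => isE_minus h

end Cfsg.Agent.OddHalf.D4.O2

end
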